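import Groth.Agent.L16.HomSh.Basic
import Groth.Agent.L16.CohClosedPush
import Groth.Agent.L16.SupportSplit
import Groth.Agent.L16.SchSupport

/-!
The sheaf of homomorphisms between coherent modules is coherent.
-/

set_option autoImplicit false
set_option backward.isDefEq.respectTransparency false
set_option backward.isDefEq.respectTransparency.types false

universe u

open CategoryTheory AlgebraicGeometry TopologicalSpace Opposite

noncomputable section

namespace Groth.L16.HomSh

open Groth.L18.Frame (rs ro rs_rs ro_ro rs_smul rs_self ro_self)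

variable {X : Scheme.{u}} {M N : X.Modules}

section Affine

variable [IsLocallyNoetherian X] (hM : Coh.IsCoh M) [Coh.IsQCoh N] {U : X.Opens} (hU : IsAffineOpen U)

include hM hU in
theorem exists_pow_smul_eq_zero (a : Γ(X, U)) (t : Γ(homMod M N, U))
    (h : rs (homMod M N) (X.basicOpen_le a) t = 0) : ∃ n : ℕ, a ^ n • t = 0 := by
  classical
  haveI : Coh.IsQCoh M := hM.1
  haveI := Groth.L20.ModStalk.finite_sections M hM hU
  obtain ⟨e, he⟩ := exists_linearEquiv (M := M) (N := N) hU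
  obtain ⟨S, hS⟩ := Module.Finite.fg_top (R := Γ(X, U)) (M := Γ(M, U))
  have hz : ∀ m : Γ(M, U), ∃ n : ℕ, a ^ n • e t m = 0 := fun m => by
    refine QCohSect.exists_pow_smul_eq_zero hU N a _ ?_
    rw [he, ev_rs]
    have := congrArg (fun s : Γ(homMod M N, X.basicOpen a) =>
      ev (secEquiv _ s) le_rfl (rs M (X.basicOpen_le a) m)) h
    exact this
  choose n hn using hz
  refine ⟨S.sup n, e.injective ?_⟩
  rw [map_smul, map_zero]
  refine LinearMap.ext_on_range (v := fun m : (S : Set Γ(M, U)) => (m : Γ(M, U)))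
    (by rw [Subtype.range_coe]; exact hS) fun m => ?_
  obtain ⟨j, hj⟩ := Nat.exists_eq_add_of_le (Finset.le_sup (f := n) m.2)
  show a ^ S.sup n • e t m = 0
  rw [hj, pow_add, mul_comm, mul_smul, hn, smul_zero]

include hM hU in
theorem exists_pow_smul_eq_res (a : Γ(X, U)) (s : Γ(homMod M N, X.basicOpen a)) :
    ∃ (n : ℕ) (t : Γ(homMod M N, U)),
      rs (homMod M N) (X.basicOpen_le a) t = ro (X.basicOpen_le a) (a ^ n) • s := by
  classical
  haveI : Coh.IsQCoh M := hM.1
  haveI := Groth.L20.ModStalk.finite_sections M hM hU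
  haveI : IsNoetherianRing Γ(X, U) := IsLocallyNoetherian.component_noetherian ⟨U, hU⟩
  obtain ⟨e, he⟩ := exists_linearEquiv (M := M) (N := N) hU
  let D := X.basicOpen a
  let hD : D ≤ U := X.basicOpen_le a
  obtain ⟨p, π, hπ⟩ := Module.Finite.exists_fin' Γ(X, U) Γ(M, U)
  let φ := secEquiv D s
  choose n₀ y₀ hy₀ using fun i : Fin p =>
    QCohSect.exists_pow_smul_eq_res hU N a (ev φ le_rfl (rs M hD (π (Pi.single i 1))))
  let n := Finset.univ.sup n₀
  have hy : ∀ i, ∃ y : Γ(N, U), rs N hD y = ro hD (a ^ n) • ev φ le_rfl (rs M hD (π (Pi.single i 1))) := fun i => by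
    obtain ⟨j, hj⟩ := Nat.exists_eq_add_of_le (Finset.le_sup (f := n₀) (Finset.mem_univ i))
    refine ⟨a ^ j • y₀ i, ?_⟩
    rw [rs_smul, hy₀ i, ← mul_smul, show n = n₀ i + j from hj, pow_add,
      show ro hD (a ^ n₀ i * a ^ j) = _ from map_mul _ _ _, mul_comm]
  choose y hy using hy
  let L : (Fin p → Γ(X, U)) →ₗ[Γ(X, U)] Γ(N, U) := (Pi.basisFun Γ(X, U) (Fin p)).constr Γ(X, U) y
  have hL : ∀ v, rs N hD (L v) = ro hD (a ^ n) • ev φ le_rfl (rs M hD (π v)) := fun v => by
    have hv : v = ∑ i, v i • (Pi.single i 1 : Fin p → Γ(X, U)) := by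
      funext j
      simp [Pi.single_apply]
    have h1 : L v = ∑ i, v i • y i := by
      simp [L, Module.Basis.constr_apply_fintype, Pi.basisFun_equivFun]
    rw [h1]
    conv_rhs => rw [hv]
    rw [map_sum π, show rs N hD (∑ i, v i • y i) = _ from map_sum _ _ _,
      show rs M hD (∑ i, π (v i • Pi.single i 1)) = _ from map_sum _ _ _, map_sum, Finset.smul_sum]
    refine Finset.sum_congr rfl fun i _ => ?_
    show rs N hD (v i • y i) = _ • ev φ le_rfl (rs M hD (π (v i • Pi.single i 1)))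
    rw [map_smul, rs_smul, rs_smul, ev_smul, hy i, smul_comm]
  obtain ⟨S, hS⟩ := (IsNoetherian.noetherian (LinearMap.ker π))
  have hk : ∀ v : Fin p → Γ(X, U), v ∈ LinearMap.ker π → ∃ k : ℕ, a ^ k • L v = 0 := fun v hv => by
    refine QCohSect.exists_pow_smul_eq_zero hU N a _ ?_
    rw [hL, LinearMap.mem_ker.1 hv, show rs M hD (0 : Γ(M, U)) = 0 from map_zero _, map_zero, smul_zero]
  choose! k hk using hk
  let K := S.sup k
  have hker : LinearMap.ker π ≤ LinearMap.ker (a ^ K • L) := by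
    rw [← hS, Submodule.span_le]
    intro v hv
    have hv' : v ∈ LinearMap.ker π := hS ▸ Submodule.subset_span hv
    obtain ⟨j, hj⟩ := Nat.exists_eq_add_of_le (Finset.le_sup (f := k) hv)
    show a ^ K • L v = 0
    rw [show K = k v + j from hj, pow_add, mul_comm, mul_smul, hk v hv', smul_zero]
  let ℓ : Γ(M, U) →ₗ[Γ(X, U)] Γ(N, U) :=
    (LinearMap.ker π).liftQ (a ^ K • L) hker ∘ₗ (π.quotKerEquivOfSurjective hπ).symm.toLinearMap
  have hℓ : ∀ v, ℓ (π v) = a ^ K • L v := fun v => by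
    show (LinearMap.ker π).liftQ _ hker ((π.quotKerEquivOfSurjective hπ).symm (π v)) = _
    rw [show (π.quotKerEquivOfSurjective hπ).symm (π v) = Submodule.Quotient.mk v from
      (LinearEquiv.symm_apply_eq _).2 rfl]
    rfl
  refine ⟨n + K, e.symm ℓ, (secEquiv D).injective (sub_eq_zero.1 ?_)⟩
  refine ev_top_injective (hU.basicOpen a) fun x => ?_
  obtain ⟨j, m, hm⟩ := QCohSect.exists_pow_smul_eq_res hU M a x
  obtain ⟨v, rfl⟩ := hπ m
  refine (isUnit_ro_pow a j).smul_eq_zero.1 ?_
  rw [← ev_smul, ← hm]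
  refine sub_eq_zero.2 ?_
  show ev (secEquiv U (e.symm ℓ)) (le_rfl.trans hD) (rs M hD (π v)) =
    ev (secEquiv D (ro hD (a ^ (n + K)) • s)) le_rfl (rs M hD (π v))
  rw [← ev_rs (secEquiv U (e.symm ℓ)) le_rfl hD (π v), ← he, e.apply_symm_apply, hℓ, rs_smul, hL,
    map_smul, ev_smulSec, ro_self, ← mul_smul, pow_add,
    show ro hD (a ^ n * a ^ K) = _ from map_mul _ _ _, mul_comm]

include hM hU in
theorem finite_sections (hN : Coh.IsCoh N) : Module.Finite Γ(X, U) Γ(homMod M N, U) := by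
  haveI : Coh.IsQCoh M := hM.1
  haveI := Groth.L20.ModStalk.finite_sections M hM hU
  haveI := Groth.L20.ModStalk.finite_sections N hN hU
  haveI : IsNoetherianRing Γ(X, U) := IsLocallyNoetherian.component_noetherian ⟨U, hU⟩
  haveI : Module.FinitePresentation Γ(X, U) Γ(M, U) := Module.finitePresentation_of_finite _ _
  obtain ⟨e, -⟩ := exists_linearEquiv (M := M) (N := N) hU
  exact Module.Finite.equiv e.symm

end Affine

variable [IsLocallyNoetherian X]

/-- `Hom(M, N)` is quasi-coherent for coherent `M` and quasi-coherent `N`. -/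
theorem isQCoh_homMod (hM : Coh.IsCoh M) (N : X.Modules) [Coh.IsQCoh N] : Coh.IsQCoh (homMod M N) := by
  refine QcqsPush.isQCoh_of_sections _ fun x => ?_
  obtain ⟨_, ⟨U, hU, rfl⟩, hxU, -⟩ :=
    X.isBasis_affineOpens.exists_subset_of_mem_open (Set.mem_univ x) isOpen_univ
  exact ⟨U, hxU, hU, fun a => ⟨exists_pow_smul_eq_res hM hU a, exists_pow_smul_eq_zero hM hU a⟩⟩

/-- `Hom(M, N)` is coherent for coherent `M` and `N`. -/
theorem isCoh_homMod (hM : Coh.IsCoh M) (hN : Coh.IsCoh N) : Coh.IsCoh (homMod M N) := by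
  haveI : Coh.IsQCoh N := hN.1
  haveI := isQCoh_homMod hM N
  refine CohClosedPush.isCoh_of_finite_sections _ fun x => ?_
  obtain ⟨_, ⟨U, hU, rfl⟩, hxU, -⟩ :=
    X.isBasis_affineOpens.exists_subset_of_mem_open (Set.mem_univ x) isOpen_univ
  exact ⟨U, hxU, hU, finite_sections hM hU hN⟩

omit [IsLocallyNoetherian X] in
/-- The support of `Hom(M, N)` lies in the supports of both. -/
theorem support_homMod_subset (hM : IsClosed (CohB1.support M)) (hN : IsClosed (CohB1.support N)) :
    CohB1.support (homMod M N) ⊆ CohB1.support M ∩ CohB1.support N := by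
  intro x hx
  by_contra hcon
  refine hx ?_
  let V₀ : X.Opens := ⟨(CohB1.support M ∩ CohB1.support N)ᶜ, (hM.inter hN).isOpen_compl⟩
  have key : ∀ (V : X.Opens), V ≤ V₀ → ∀ s : Γ(homMod M N, V), s = 0 := fun V hV s => by
    refine sec_ext fun W hW m => ?_
    show ev (secEquiv V s) hW m = 0
    let WM : X.Opens := W ⊓ ⟨(CohB1.support M)ᶜ, hM.isOpen_compl⟩
    let WN : X.Opens := W ⊓ ⟨(CohB1.support N)ᶜ, hN.isOpen_compl⟩
    refine ext_cover N (fun b : ULift.{u} Bool => if b.down then WM else WN)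
      (fun b => by split_ifs <;> exact inf_le_left) (fun z hz => ?_) fun b => ?_
    · rcases not_and_or.1 (hV (hW hz)) with h | h
      · exact Opens.mem_iSup.2 ⟨⟨true⟩, by simpa using ⟨hz, h⟩⟩
      · exact Opens.mem_iSup.2 ⟨⟨false⟩, by simpa using ⟨hz, h⟩⟩
    · obtain ⟨⟨⟩⟩ := b
      · refine (SupportSplit.section_eq_zero N (fun z hz => ?_) _).trans (map_zero _).symm
        simp only [Bool.false_eq_true, if_false] at hz
        exact hz.2
      · rw [ev_rs]
        refine Eq.trans ?_ (map_zero _).symm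
        rw [SupportSplit.section_eq_zero M (fun z hz => ?_) (rs M _ m), map_zero]
        simp only [if_true] at hz
        exact hz.2
  refine ⟨fun p q => ?_⟩
  have h0 : ∀ p : (homMod M N).presheaf.stalk x, p = 0 := fun p => by
    obtain ⟨V, hxV, s, rfl⟩ := TopCat.Presheaf.exists_germ_eq (homMod M N).presheaf p
    have h1 := Groth.L20.ModStalk.germ_rs (homMod M N) (inf_le_left : V ⊓ V₀ ≤ V)
      (show x ∈ V ⊓ V₀ from ⟨hxV, hcon⟩) s
    rw [key (V ⊓ V₀) inf_le_right (rs _ (inf_le_left : V ⊓ V₀ ≤ V) s)] at h1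
    exact h1.symm.trans (map_zero _)
  rw [h0 p, h0 q]

end Groth.L16.HomSh
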