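import Groth.Agent.L16.Rees.Consequences
import Groth.Agent.L16.AffineBC.Pullback
import Groth.Agent.L16.CohSupport
import Mathlib.RingTheory.Filtration
import Mathlib.Algebra.Homology.ShortComplex.Exact

/-!
Sections of `N / I^m N` over affine opens, and two consequences of the Artin-Rees lemma for modules of homomorphisms.
-/

set_option autoImplicit false
set_option linter.style.haveILetI false
set_option backward.isDefEq.respectTransparency false
set_option backward.isDefEq.respectTransparency.types false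

universe u

open CategoryTheory CategoryTheory.Limits AlgebraicGeometry TopologicalSpace Opposite

noncomputable section

namespace Groth.L16.HomSh

open Groth.L18.Frame (rs ro)
open Formal (smulMod smulFamily modPow modPowπ)

section Alg

variable {R : Type u} [CommRing R] [IsNoetherianRing R] (J : Ideal R)

theorem mem_smul_pi {ι : Type*} [Finite ι] {Q : Type u} [AddCommGroup Q] [Module R Q] (I : Ideal R)
    (v : ι → Q) (h : ∀ i, v i ∈ I • (⊤ : Submodule R Q)) : v ∈ I • (⊤ : Submodule R (ι → Q)) := by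
  classical
  cases nonempty_fintype ι
  rw [← Finset.univ_sum_single v]
  refine Submodule.sum_mem _ fun i _ => ?_
  have := Submodule.mem_map_of_mem (f := LinearMap.single R (fun _ : ι => Q) i) (h i)
  rw [Submodule.map_smul''] at this
  exact Submodule.smul_mono le_rfl le_top this

theorem pi_mem_smul {ι : Type*} {Q : Type u} [AddCommGroup Q] [Module R Q] (I : Ideal R)
    {v : ι → Q} (h : v ∈ I • (⊤ : Submodule R (ι → Q))) (i : ι) : v i ∈ I • (⊤ : Submodule R Q) := by
  have := Submodule.mem_map_of_mem (f := LinearMap.proj (R := R) (φ := fun _ : ι => Q) i) h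
  rw [Submodule.map_smul''] at this
  exact Submodule.smul_mono le_rfl le_top this

theorem exists_hom_kernel_bound (P Q : Type u) [AddCommGroup P] [Module R P] [Module.Finite R P]
    [AddCommGroup Q] [Module R Q] [Module.Finite R Q] :
    ∃ c : ℕ, ∀ (k : ℕ) (s : P →ₗ[R] Q), (∀ x, s x ∈ (J ^ (k + c)) • (⊤ : Submodule R Q)) →
      s ∈ (J ^ k) • (⊤ : Submodule R (P →ₗ[R] Q)) := by
  classical
  obtain ⟨p, π, hπ⟩ := Module.Finite.exists_fin' R P
  let ε : (P →ₗ[R] Q) →ₗ[R] (Fin p → Q) :=
    { toFun := fun s i => s (π (Pi.single i 1))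
      map_add' := fun _ _ => rfl
      map_smul' := fun _ _ => rfl }
  have hε : Function.Injective ε := fun s t h => by
    refine LinearMap.ext fun x => ?_
    obtain ⟨v, rfl⟩ := hπ x
    refine LinearMap.congr_fun (f := s ∘ₗ π) (g := t ∘ₗ π) ?_ v
    exact LinearMap.pi_ext' fun i => LinearMap.ext_ring (congrFun h i)
  obtain ⟨c, hc⟩ := Ideal.exists_pow_inf_eq_pow_smul J (LinearMap.range ε)
  refine ⟨c, fun k s hs => ?_⟩
  have h1 : ε s ∈ J ^ (k + c) • (⊤ : Submodule R (Fin p → Q)) ⊓ LinearMap.range ε :=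
    ⟨mem_smul_pi _ _ fun i => hs _, ⟨s, rfl⟩⟩
  rw [hc (k + c) (Nat.le_add_left c k), Nat.add_sub_cancel] at h1
  have h2 : ε s ∈ Submodule.map ε (J ^ k • ⊤) := by
    rw [Submodule.map_smul'', Submodule.map_top]
    exact Submodule.smul_mono le_rfl inf_le_right h1
  obtain ⟨t, ht, hts⟩ := h2
  exact hε hts ▸ ht

theorem exists_hom_lift_bound (P Q : Type u) [AddCommGroup P] [Module R P] [Module.Finite R P]
    [AddCommGroup Q] [Module R Q] [Module.Finite R Q] {p : ℕ} (π : (Fin p → R) →ₗ[R] P)
    (hπ : Function.Surjective π) :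
    ∃ c : ℕ, ∀ (m : ℕ) (v : Fin p → Q),
      (∀ r, π r = 0 → ∑ i, r i • v i ∈ (J ^ (m + c)) • (⊤ : Submodule R Q)) →
      ∃ s : P →ₗ[R] Q, ∀ i, s (π (Pi.single i 1)) - v i ∈ (J ^ m) • (⊤ : Submodule R Q) := by
  classical
  obtain ⟨S, hS⟩ := IsNoetherian.noetherian (LinearMap.ker π)
  let d : (Fin p → Q) →ₗ[R] ({r // r ∈ S} → Q) :=
    { toFun := fun v r => ∑ i, (r : Fin p → R) i • v i
      map_add' := fun v w => funext fun r => by simp [Finset.sum_add_distrib]
      map_smul' := fun a v => funext fun r => by simp [Finset.smul_sum, smul_comm a] }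
  obtain ⟨c, hc⟩ := Ideal.exists_pow_inf_eq_pow_smul J (LinearMap.range d)
  refine ⟨c, fun m v hv => ?_⟩
  have h1 : d v ∈ J ^ (m + c) • (⊤ : Submodule R ({r // r ∈ S} → Q)) ⊓ LinearMap.range d :=
    ⟨mem_smul_pi _ _ fun r => hv r.1 (show (r : Fin p → R) ∈ LinearMap.ker π from
      hS ▸ Submodule.subset_span r.2), ⟨v, rfl⟩⟩
  rw [hc (m + c) (Nat.le_add_left c m), Nat.add_sub_cancel] at h1
  have h2 : d v ∈ Submodule.map d (J ^ m • ⊤) := by
    rw [Submodule.map_smul'', Submodule.map_top]
    exact Submodule.smul_mono le_rfl inf_le_right h1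
  obtain ⟨w, hw, hwv⟩ := h2
  let L : (Fin p → R) →ₗ[R] Q := (Pi.basisFun R (Fin p)).constr R (v - w)
  have hL : ∀ r, L r = ∑ i, r i • (v - w) i := fun r => by
    simp [L, Module.Basis.constr_apply_fintype, Pi.basisFun_equivFun, smul_sub, Finset.sum_sub_distrib]
  have hker : LinearMap.ker π ≤ LinearMap.ker L := by
    rw [← hS, Submodule.span_le]
    intro r hr
    show L r = 0
    rw [hL]
    have := congrFun (show d (v - w) = 0 by rw [map_sub, hwv, sub_self]) ⟨r, hr⟩
    exact this
  refine ⟨(LinearMap.ker π).liftQ L hker ∘ₗ (π.quotKerEquivOfSurjective hπ).symm.toLinearMap, fun i => ?_⟩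
  have e : ((π.quotKerEquivOfSurjective hπ).symm (π (Pi.single i 1))) = Submodule.Quotient.mk (Pi.single i 1) :=
    (LinearEquiv.symm_apply_eq _).2 rfl
  show (LinearMap.ker π).liftQ L hker _ - v i ∈ _
  rw [show (π.quotKerEquivOfSurjective hπ).symm.toLinearMap (π (Pi.single i 1)) = _ from e,
    Submodule.liftQ_apply, hL]
  rw [Finset.sum_eq_single i (fun j _ hj => by simp [hj]) (by simp)]
  simp only [Pi.single_eq_same, one_smul, Pi.sub_apply, sub_sub_cancel_left]
  exact Submodule.neg_mem _ (pi_mem_smul _ hw i)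

end Alg

variable {A : Type u} [CommRing A] {X : Scheme.{u}} [X.Over (Spec (CommRingCat.of A))]

open AffineBC (scal)

theorem smulMod_app (F : X.Modules) (a : A) (U : X.Opens) (m : Γ(F, U)) :
    (smulMod A F a).app U m = scal A X U a • m := Rees.smulModΓ_app F _ U m

theorem smulMod_add (F : X.Modules) (a b : A) : smulMod A F (a + b) = smulMod A F a + smulMod A F b := by
  refine Scheme.Modules.hom_ext _ _ fun U => ?_
  ext m
  show (smulMod A F (a + b)).app U m = (smulMod A F a).app U m + (smulMod A F b).app U m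
  rw [smulMod_app, smulMod_app, smulMod_app, map_add, add_smul]

/-- Sections killed by a map lift to its kernel. -/
theorem exists_kernel_lift {N Q : X.Modules} (ψ : N ⟶ Q) {U : X.Opens} (x : Γ(N, U)) (hx : ψ.app U x = 0) :
    ∃ k : Γ(kernel ψ, U), (kernel.ι ψ).app U k = x := by
  let G : SheafOfModules.{u} X.ringCatSheaf ⥤ _ := SheafOfModules.evaluation.{u} X.ringCatSheaf (op U)
  let f := G.map (show (N : SheafOfModules.{u} X.ringCatSheaf) ⟶ Q from ψ)
  let l : ModuleCat.of _ (X.ringCatSheaf.obj.obj (op U)) ⟶ G.obj N :=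
    ModuleCat.ofHom (LinearMap.toSpanSingleton _ _ (show G.obj N from x))
  have hl : l ≫ f = 0 := by
    refine ModuleCat.hom_ext (LinearMap.ext_ring ?_)
    show f ((1 : X.ringCatSheaf.obj.obj (op U)) • (show G.obj N from x)) = 0
    rw [one_smul]
    exact hx
  let k := (kernel.lift f l hl ≫ (PreservesKernel.iso G ψ).inv) (1 : X.ringCatSheaf.obj.obj (op U))
  refine ⟨k, ?_⟩
  have e : (kernel.lift f l hl ≫ (PreservesKernel.iso G ψ).inv) ≫ G.map (kernel.ι ψ) = l := by
    rw [Category.assoc, PreservesKernel.iso_inv_ι, kernel.lift_ι]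
  refine (ConcreteCategory.congr_hom e _).trans ?_
  show (1 : X.ringCatSheaf.obj.obj (op U)) • (show G.obj N from x) = _
  exact one_smul _ _

/-- Sections of a cokernel on affine opens. -/
theorem exists_of_cokernel_app_eq_zero [IsLocallyNoetherian X] {F G : X.Modules} (hF : Coh.IsCoh F)
    (hG : Coh.IsCoh G) (φ : F ⟶ G) {U : X.Opens} (hU : IsAffineOpen U) {x : Γ(G, U)}
    (hx : (cokernel.π φ).app U x = 0) : ∃ y, φ.app U y = x := by
  haveI : Coh.IsQCoh F := hF.1
  haveI : Coh.IsQCoh G := hG.1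
  haveI : Coh.IsQCoh (Abelian.image φ) := (CohSupport.isCoh_image hF φ).1
  obtain ⟨k, hk⟩ := exists_kernel_lift (cokernel.π φ) x hx
  obtain ⟨y, hy⟩ := AffineBC.surjective_app_of_epi (Abelian.factorThruImage φ) hU k
  refine ⟨y, ?_⟩
  rw [← hk, ← hy]
  exact (ConcreteCategory.congr_hom (congrArg (fun t => Scheme.Modules.Hom.app t U)
    (Abelian.image.fac φ)) y).symm

variable (I : Ideal A)

theorem exists_quot [IsLocallyNoetherian X] {N : X.Modules} (hN : Coh.IsCoh N) (S : Finset A) :
    ∃ (Q : X.Modules) (q : N ⟶ Q), Coh.IsCoh Q ∧ Epi q ∧ (∀ a ∈ S, smulMod A N a ≫ q = 0) ∧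
      (∀ {T : X.Modules} (t : N ⟶ T), (∀ a ∈ S, smulMod A N a ≫ t = 0) → ∃ r, q ≫ r = t) ∧
      ∀ (U : X.Opens), IsAffineOpen U → ∀ x, q.app U x = 0 →
        x ∈ ((Ideal.span (S : Set A)).map (scal A X U)) • (⊤ : Submodule Γ(X, U) Γ(N, U)) := by
  classical
  induction S using Finset.induction with
  | empty =>
    refine ⟨N, 𝟙 N, hN, inferInstance, by simp, fun t _ => ⟨t, Category.id_comp t⟩, fun U _ x hx => ?_⟩
    rw [show x = 0 from hx]
    exact zero_mem _
  | @insert a S ha ih =>
    obtain ⟨Q, q, hQ, hq, hz, hf, hk⟩ := ih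
    refine ⟨cokernel (smulMod A Q a), q ≫ cokernel.π _, (CohKernel.isCoh_kernel_cokernel hQ hQ _).2,
      epi_comp _ _, fun b hb => ?_, fun t ht => ?_, fun U hU x hx => ?_⟩
    · rcases Finset.mem_insert.1 hb with rfl | hb
      · rw [← Category.assoc, Rees.smulMod_naturality, Category.assoc, cokernel.condition, comp_zero]
      · rw [← Category.assoc, hz b hb, zero_comp]
    · obtain ⟨r, hr⟩ := hf t fun b hb => ht b (Finset.mem_insert_of_mem hb)
      refine ⟨cokernel.desc _ r ?_, by rw [Category.assoc, cokernel.π_desc, hr]⟩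
      rw [← cancel_epi q, comp_zero, ← Category.assoc, ← Rees.smulMod_naturality, Category.assoc, hr]
      exact ht a (Finset.mem_insert_self a S)
    · haveI : Coh.IsQCoh N := hN.1
      haveI : Coh.IsQCoh Q := hQ.1
      obtain ⟨y, hy⟩ := exists_of_cokernel_app_eq_zero hQ hQ (smulMod A Q a) hU (x := q.app U x) hx
      obtain ⟨y', rfl⟩ := AffineBC.surjective_app_of_epi q hU y
      rw [smulMod_app, ← q.app_smul] at hy
      have h0 := hk U hU (x - scal A X U a • y') (by rw [map_sub, sub_eq_zero]; exact hy.symm)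
      have hle : (Ideal.span (S : Set A)).map (scal A X U) ≤
          (Ideal.span ((insert a S : Finset A) : Set A)).map (scal A X U) :=
        Ideal.map_mono (Ideal.span_mono (by simp))
      rw [show x = (x - scal A X U a • y') + scal A X U a • y' by abel]
      refine add_mem (Submodule.smul_mono hle le_rfl h0) (Submodule.smul_mem_smul ?_ trivial)
      exact Ideal.mem_map_of_mem _ (Ideal.subset_span (by simp))

variable [IsNoetherianRing A] [IsLocallyNoetherian X] {N : X.Modules} (hN : Coh.IsCoh N)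

include hN in
theorem modPow_spec (m : ℕ) :
    Coh.IsCoh (modPow I m N) ∧ ∀ (U : X.Opens), IsAffineOpen U →
      Function.Surjective ((modPowπ I m N).app U) ∧
      ∀ x, (modPowπ I m N).app U x = 0 ↔
        x ∈ ((I.map (scal A X U)) ^ m) • (⊤ : Submodule Γ(X, U) Γ(N, U)) := by
  classical
  obtain ⟨S, hS⟩ := IsNoetherian.noetherian (I ^ m)
  obtain ⟨Q, q, hQ, hq, hz, hf, hk⟩ := exists_quot hN S
  obtain ⟨r, hr⟩ := hf (modPowπ I m N) fun a ha =>
    Rees.smulMod_modPowπ I N (hS ▸ Submodule.subset_span ha : a ∈ I ^ m)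
  have hz' : ∀ a ∈ I ^ m, smulMod A N a ≫ q = 0 := fun a ha => by
    rw [← hS] at ha
    induction ha using Submodule.span_induction with
    | mem b hb => exact hz b hb
    | zero => rw [Rees.smulMod_zero, zero_comp]
    | add b c _ _ hb hc => rw [smulMod_add, Preadditive.add_comp, hb, hc, add_zero]
    | smul b c _ hc => rw [smul_eq_mul, mul_comm, Rees.smulMod_mul, Category.assoc, hc, comp_zero]
  have h0 : smulFamily (I ^ m) N ≫ q = 0 := by
    apply Sigma.hom_ext
    intro a
    rw [comp_zero, smulFamily, Sigma.ι_desc_assoc]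
    exact hz' a a.2
  haveI : Epi (modPowπ I m N) := inferInstanceAs (Epi (cokernel.π _))
  let r' : modPow I m N ⟶ Q := cokernel.desc _ q h0
  have hr' : modPowπ I m N ≫ r' = q := cokernel.π_desc _ _ _
  let e : Q ≅ modPow I m N := ⟨r, r', by rw [← cancel_epi q, reassoc_of% hr, hr', Category.comp_id],
    by rw [← cancel_epi (modPowπ I m N), reassoc_of% hr', hr, Category.comp_id]⟩
  have hc := CohSupport.isCoh_of_iso e hQ
  refine ⟨hc, fun U hU => ?_⟩
  haveI : Coh.IsQCoh N := hN.1
  haveI : Coh.IsQCoh (modPow I m N) := hc.1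
  refine ⟨AffineBC.surjective_app_of_epi _ hU, fun x => ⟨fun hx => ?_, fun hx => ?_⟩⟩
  · have h1 : q.app U x = 0 := by
      rw [← hr']
      show r'.app U ((modPowπ I m N).app U x) = 0
      rw [hx, map_zero]
    have h2 := hk U hU x h1
    rwa [show Ideal.span (S : Set A) = I ^ m from hS, Ideal.map_pow] at h2
  · rw [← Ideal.map_pow, Ideal.map] at hx
    refine Submodule.smul_induction_on hx (fun b hb y _ => ?_) (fun a b ha hb => by rw [map_add, ha, hb, add_zero])
    rw [Scheme.Modules.Hom.app_smul]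
    induction hb using Submodule.span_induction with
    | mem b hb =>
      obtain ⟨a, ha, rfl⟩ := hb
      rw [← Scheme.Modules.Hom.app_smul, ← smulMod_app]
      exact ConcreteCategory.congr_hom (congrArg (fun t => Scheme.Modules.Hom.app t U)
        (Rees.smulMod_modPowπ I N ha)) y
    | zero => exact zero_smul _ _
    | add b c _ _ hb hc => rw [add_smul, hb, hc, add_zero]
    | smul b c _ hc => rw [smul_eq_mul, mul_smul, hc, smul_zero]

end Groth.L16.HomSh
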