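import Groth.Agent.L16.HomSh.Coherent
import Groth.Agent.L16.HomSh.ModPowSect
import Groth.Agent.L16.Supp.ProperSupport
import Mathlib.AlgebraicGeometry.Noetherian

/-!
Completion is fully faithful on coherent modules whose supports meet in a proper subset.
-/

set_option autoImplicit false
set_option linter.style.haveILetI false
set_option backward.isDefEq.respectTransparency false
set_option backward.isDefEq.respectTransparency.types false

universe u

open CategoryTheory CategoryTheory.Limits AlgebraicGeometry TopologicalSpace Opposite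

noncomputable section

namespace Groth.L16.HomSh

open Groth.L18.Frame (rs ro rs_rs ro_ro rs_smul rs_self ro_self)
open Formal (smulMod modPow modPowπ modPowTrans modPowπ_trans)
open AffineBC (scal)

theorem isProperOver_mono {X S : Scheme.{u}} (f : X ⟶ S) {Z Z' : Set X} (h : ClSub.IsProperOver f Z)
    (hc : IsClosed Z') (hsub : Z' ⊆ Z) : ClSub.IsProperOver f Z' := by
  obtain ⟨hZ, hp⟩ := h
  let V := Scheme.IdealSheafData.vanishingIdeal ⟨Z, hZ⟩
  let V' := Scheme.IdealSheafData.vanishingIdeal ⟨Z', hc⟩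
  have hle : V.subschemeι.ker ≤ V'.subschemeι.ker := by
    rw [Scheme.IdealSheafData.ker_subschemeι, Scheme.IdealSheafData.ker_subschemeι,
      ← Scheme.IdealSheafData.le_support_iff_le_vanishingIdeal]
    show Z' ⊆ _
    rw [Scheme.IdealSheafData.coe_support_vanishingIdeal]
    exact hsub
  refine ⟨hc, ?_⟩
  have e : IsClosedImmersion.lift V.subschemeι V'.subschemeι hle ≫ V.subschemeι = V'.subschemeι :=
    IsClosedImmersion.lift_fac _ _ _
  haveI : IsClosedImmersion (IsClosedImmersion.lift V.subschemeι V'.subschemeι hle ≫ V.subschemeι) := by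
    rw [e]; infer_instance
  haveI : IsClosedImmersion (IsClosedImmersion.lift V.subschemeι V'.subschemeι hle) :=
    IsClosedImmersion.of_comp _ V.subschemeι
  haveI : IsProper (V.subschemeι ≫ f) := hp
  rw [← e, Category.assoc]
  infer_instance

variable {A : Type u} [CommRing A] {X : Scheme.{u}} [X.Over (Spec (CommRingCat.of A))] (I : Ideal A)
  {M N : X.Modules}

theorem post_smulMod (a : A) : post M (smulMod A N a) = smulMod A (homMod M N) a := by
  refine hom_ext_ev fun U s W h x => ?_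
  rw [ev_post, smulMod_app, smulMod_app, map_smul, ev_smulSec]
  exact congrArg (fun r => r • ev (secEquiv U s) h x) (ro_ro _ h _).symm

/-- A morphism applied to restricted sections. -/
theorem app_rs {P Q : X.Modules} (φ : P ⟶ Q) {U V : X.Opens} (h : V ≤ U) (s : Γ(P, U)) :
    φ.app V (rs P h s) = rs Q h (φ.app U s) := congr($(φ.mapPresheaf.naturality (homOfLE h).op) s)

theorem modPowπ_zero_mono {N : X.Modules} {m m' : ℕ} (h : m ≤ m') {U : X.Opens} {x : Γ(N, U)}
    (hx : (modPowπ I m' N).app U x = 0) : (modPowπ I m N).app U x = 0 := by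
  induction m', h using Nat.le_induction with
  | base => exact hx
  | succ k _ ih =>
    refine ih ?_
    rw [← modPowπ_trans]
    show (modPowTrans I k N).app U ((modPowπ I (k + 1) N).app U x) = 0
    rw [hx, map_zero]

theorem secEquiv_app_zero_mono {m m' : ℕ} (h : m ≤ m') {U : X.Opens} {s : Γ(homMod M N, U)}
    (hx : (post M (modPowπ I m' N)).app U s = 0) : (post M (modPowπ I m N)).app U s = 0 := by
  refine sec_ext fun W hW x => ?_
  exact modPowπ_zero_mono I h (congrArg (fun t : Γ(homMod M (modPow I m' N), U) => ev (secEquiv U t) hW x) hx)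

section Family

variable (f : ∀ n : ℕ, M ⟶ modPow I (n + 1) N)
  (hf : ∀ n, f (n + 1) ≫ modPowTrans I (n + 1) N = f n)

/-- A section approximates the compatible family at level `n`. -/
def Approx {U : X.Opens} (s : Γ(homMod M N, U)) (n : ℕ) : Prop :=
  (post M (modPowπ I (n + 1) N)).app U s =
    rs (homMod M (modPow I (n + 1) N)) le_top (globalEquiv M _ (f n))

theorem Approx.res {U V : X.Opens} (h : V ≤ U) {s : Γ(homMod M N, U)} {n : ℕ} (hs : Approx I f s n) :
    Approx I f (rs _ h s) n := by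
  show (post M (modPowπ I (n + 1) N)).app V (rs _ h s) = _
  rw [app_rs, hs, rs_rs]

include hf in
theorem Approx.mono {U : X.Opens} {s : Γ(homMod M N, U)} {n n' : ℕ} (h : n ≤ n') (hs : Approx I f s n') :
    Approx I f s n := by
  induction n', h using Nat.le_induction with
  | base => exact hs
  | succ k _ ih =>
    refine ih ?_
    show _ = _
    rw [← modPowπ_trans, post_comp, ← hf k]
    show (post M (modPowTrans I (k + 1) N)).app U ((post M (modPowπ I (k + 1 + 1) N)).app U s) = _
    rw [hs, app_rs, globalEquiv_comp]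

include hf in
theorem ev_mono {U : X.Opens} {x : Γ(N, U)} {y : Γ(M, U)} {n n' : ℕ} (h : n ≤ n')
    (hx : (modPowπ I (n' + 1) N).app U x = (f n').app U y) :
    (modPowπ I (n + 1) N).app U x = (f n).app U y := by
  induction n', h using Nat.le_induction with
  | base => exact hx
  | succ k _ ih =>
    refine ih ?_
    rw [← modPowπ_trans, ← hf k]
    show (modPowTrans I (k + 1) N).app U ((modPowπ I (k + 1 + 1) N).app U x) = _
    rw [hx]
    rfl

variable [IsNoetherianRing A] [IsLocallyNoetherian X] (hM : Coh.IsCoh M) (hN : Coh.IsCoh N)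

include hM hN hf in
theorem exists_approx {U : X.Opens} (hU : IsAffineOpen U) :
    ∀ n, ∃ s : Γ(homMod M N, U), Approx I f s n := by
  haveI : Coh.IsQCoh M := hM.1
  haveI : IsNoetherianRing Γ(X, U) := IsLocallyNoetherian.component_noetherian ⟨U, hU⟩
  haveI := Groth.L20.ModStalk.finite_sections M hM hU
  haveI := Groth.L20.ModStalk.finite_sections N hN hU
  obtain ⟨p, π, hπ⟩ := Module.Finite.exists_fin' Γ(X, U) Γ(M, U)
  obtain ⟨c, hc⟩ := exists_hom_lift_bound (I.map (scal A X U)) Γ(M, U) Γ(N, U) π hπ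
  intro n
  obtain ⟨hsurj, hker⟩ := (modPow_spec I hN (n + c + 1)).2 U hU
  choose v hv using fun i : Fin p => hsurj ((f (n + c)).app U (π (Pi.single i 1)))
  obtain ⟨ℓ, hℓ⟩ := hc (n + 1) v fun r hr => by
    rw [show n + 1 + c = n + c + 1 by omega]
    refine (hker _).1 ?_
    rw [map_sum]
    have e : ∀ i, (modPowπ I (n + c + 1) N).app U (r i • v i) = (f (n + c)).app U (π (r i • Pi.single i 1)) :=
      fun i => by rw [map_smul π, Scheme.Modules.Hom.app_smul, Scheme.Modules.Hom.app_smul, hv]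
    rw [Finset.sum_congr rfl fun i _ => e i, ← map_sum, ← map_sum,
      show ∑ i, r i • (Pi.single i 1 : Fin p → Γ(X, U)) = r from by funext j; simp [Pi.single_apply],
      hr, map_zero]
  obtain ⟨e, he⟩ := exists_linearEquiv (M := M) (N := N) hU
  obtain ⟨hsurj', hker'⟩ := (modPow_spec I hN (n + 1)).2 U hU
  refine ⟨e.symm ℓ, (secEquiv U).injective (sub_eq_zero.1 (ev_top_injective hU fun x => sub_eq_zero.2 ?_))⟩
  show (modPowπ I (n + 1) N).app U (ev (secEquiv U (e.symm ℓ)) le_rfl x) = (f n).app U x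
  rw [← he, e.apply_symm_apply]
  obtain ⟨r, rfl⟩ := hπ x
  rw [show r = ∑ i, r i • (Pi.single i 1 : Fin p → Γ(X, U)) from by funext j; simp [Pi.single_apply],
    map_sum π, map_sum ℓ, map_sum, map_sum]
  refine Finset.sum_congr rfl fun i _ => ?_
  rw [map_smul π, map_smul ℓ, Scheme.Modules.Hom.app_smul, Scheme.Modules.Hom.app_smul]
  congr 1
  rw [← ev_mono I f hf (Nat.le_add_right n c) (hv i), ← sub_eq_zero, ← map_sub]
  exact (hker' _).2 (hℓ i)

end Family

variable [IsNoetherianRing A] [IsLocallyNoetherian X] (hM : Coh.IsCoh M) (hN : Coh.IsCoh N)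

include hM hN in
theorem exists_kernel_bound_affine {U : X.Opens} (hU : IsAffineOpen U) :
    ∃ c : ℕ, ∀ k (s : Γ(homMod M N, U)), (post M (modPowπ I (k + c) N)).app U s = 0 →
      (modPowπ I k (homMod M N)).app U s = 0 := by
  haveI : Coh.IsQCoh M := hM.1
  haveI : IsNoetherianRing Γ(X, U) := IsLocallyNoetherian.component_noetherian ⟨U, hU⟩
  haveI := Groth.L20.ModStalk.finite_sections M hM hU
  haveI := Groth.L20.ModStalk.finite_sections N hN hU
  obtain ⟨c, hc⟩ := exists_hom_kernel_bound (I.map (scal A X U)) Γ(M, U) Γ(N, U)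
  refine ⟨c, fun k s hs => ?_⟩
  obtain ⟨e, he⟩ := exists_linearEquiv (M := M) (N := N) hU
  have h1 : e s ∈ (I.map (scal A X U)) ^ k • (⊤ : Submodule Γ(X, U) (Γ(M, U) →ₗ[Γ(X, U)] Γ(N, U))) := by
    refine hc k (e s) fun x => (((modPow_spec I hN (k + c)).2 U hU).2 _).1 ?_
    rw [he, ← ev_post, hs]
    rfl
  refine (((modPow_spec I (isCoh_homMod hM hN) k).2 U hU).2 _).2 ?_
  have h2 := Submodule.mem_map_of_mem (f := e.symm.toLinearMap) h1
  rw [Submodule.map_smul'', LinearEquiv.coe_coe, e.symm_apply_apply] at h2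
  exact Submodule.smul_mono le_rfl le_top h2

variable [CompactSpace X]

theorem exists_finite_affine_cover (X : Scheme.{u}) [CompactSpace X] :
    ∃ T : Finset X.affineOpens, ∀ x : X, ∃ U ∈ T, x ∈ U.1 := by
  obtain ⟨T, hT⟩ := isCompact_univ.elim_finite_subcover (fun U : X.affineOpens => (U.1 : Set X))
    (fun U => U.1.2) fun x _ => by
      obtain ⟨_, ⟨U, hU, rfl⟩, hxU, -⟩ :=
        X.isBasis_affineOpens.exists_subset_of_mem_open (Set.mem_univ x) isOpen_univ
      exact Set.mem_iUnion.2 ⟨⟨U, hU⟩, hxU⟩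
  exact ⟨T, fun x => by simpa only [Set.mem_iUnion, exists_prop, SetLike.mem_coe] using hT (Set.mem_univ x)⟩

include hM hN in
theorem exists_kernel_bound :
    ∃ c : ℕ, ∀ k (V : X.Opens) (s : Γ(homMod M N, V)), (post M (modPowπ I (k + c) N)).app V s = 0 →
      (modPowπ I k (homMod M N)).app V s = 0 := by
  classical
  obtain ⟨T, hT⟩ := exists_finite_affine_cover X
  choose cU hcU using fun U : X.affineOpens => exists_kernel_bound_affine I hM hN U.2
  refine ⟨T.sup cU, fun k V s hs => ?_⟩
  let ι := {p : Σ U : X.affineOpens, Γ(X, U.1) // p.1 ∈ T ∧ X.basicOpen p.2 ≤ V}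
  refine ext_cover _ (fun p : ι => X.basicOpen p.1.2) (fun p => p.2.2) (fun x hx => ?_) fun ⟨⟨U, a⟩, hU, ha⟩ => ?_
  · obtain ⟨U, hU, hxU⟩ := hT x
    obtain ⟨a, ha, hxa⟩ := U.2.exists_basicOpen_le (⟨x, hx⟩ : V) hxU
    exact Opens.mem_iSup.2 ⟨⟨⟨U, a⟩, hU, ha⟩, hxa⟩
  · show _ = rs _ ha (0 : Γ(modPow I k (homMod M N), V))
    rw [show rs _ ha (0 : Γ(modPow I k (homMod M N), V)) = 0 from map_zero _, ← app_rs]
    haveI : Coh.IsQCoh M := hM.1
    haveI : Coh.IsQCoh (homMod M N) := (isCoh_homMod hM hN).1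
    haveI : Coh.IsQCoh (homMod M (modPow I (k + T.sup cU) N)) :=
      (isCoh_homMod hM (modPow_spec I hN _).1).1
    obtain ⟨n, t, ht⟩ := QCohSect.exists_pow_smul_eq_res U.2 (homMod M N) a (rs _ ha s)
    have h0 : rs _ (X.basicOpen_le a) ((post M (modPowπ I (k + T.sup cU) N)).app U.1 t) = 0 := by
      rw [← app_rs, ht, Scheme.Modules.Hom.app_smul, app_rs, hs,
        show rs (homMod M (modPow I (k + T.sup cU) N)) ha (0 : Γ(homMod M _, V)) = 0 from map_zero _, smul_zero]
    obtain ⟨l, hl⟩ := QCohSect.exists_pow_smul_eq_zero U.2 _ a _ h0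
    rw [← Scheme.Modules.Hom.app_smul] at hl
    have h1 := hcU U k (a ^ l • t) (by
      refine secEquiv_app_zero_mono I ?_ hl
      exact Nat.add_le_add_left (Finset.le_sup hU) k)
    have h2 := congrArg (rs _ (X.basicOpen_le a)) h1
    rw [← app_rs, rs_smul, ht, ← mul_smul, Scheme.Modules.Hom.app_smul,
      show rs (modPow I k (homMod M N)) (X.basicOpen_le a) 0 = 0 from map_zero _] at h2
    exact ((isUnit_ro_pow a l).mul (isUnit_ro_pow a n)).smul_eq_zero.1 h2

/-- Global sections and cohomology in degree zero. -/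
def h0Equiv (F : X.Modules) : Coh.HH X F 0 ≃+ Γ(F, ⊤) :=
  CategoryTheory.Sheaf.H.equiv₀ (Coh.toAb F) (Limits.isTerminalTop : Limits.IsTerminal (⊤ : X.Opens))

omit [CompactSpace X] [IsLocallyNoetherian X] in
theorem h0Equiv_map {F G : X.Modules} (g : F ⟶ G) (y : Coh.HH X F 0) :
    h0Equiv G (CategoryTheory.Sheaf.H.map ((SheafOfModules.toSheaf _).map g) 0 y) = g.app ⊤ (h0Equiv F y) :=
  (CategoryTheory.Sheaf.H.equiv₀_naturality
    (Limits.isTerminalTop : Limits.IsTerminal (⊤ : X.Opens)) ((SheafOfModules.toSheaf _).map g) y).symm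

theorem globalEquiv_post {N N' : X.Modules} (φ : M ⟶ N) (g : N ⟶ N') :
    globalEquiv M N' (φ ≫ g) = (post M g).app ⊤ (globalEquiv M N φ) := globalEquiv_comp M N φ g

variable [IsAdicComplete I A] [LocallyOfFiniteType (X ↘ Spec (CommRingCat.of A))]

include hM hN in
theorem toHHlim_bijective_homMod
    (hs : ClSub.IsProperOver (X ↘ Spec (CommRingCat.of A)) (CohB1.support M ∩ CohB1.support N)) :
    Function.Bijective (Formal.toHHlim I (homMod M N) 0) := by
  have hH := isCoh_homMod hM hN
  exact (Supp.formalFunctions I hH (isProperOver_mono _ hs (CohSupport.isClosed_support _ hH.2)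
    (support_homMod_subset (CohSupport.isClosed_support _ hM.2) (CohSupport.isClosed_support _ hN.2))) 0).2

include hM hN in
/-- Completion is fully faithful. -/
theorem existsUnique_hom
    (hs : ClSub.IsProperOver (X ↘ Spec (CommRingCat.of A)) (CohB1.support M ∩ CohB1.support N))
    (f : ∀ n : ℕ, M ⟶ modPow I (n + 1) N) (hf : ∀ n, f (n + 1) ≫ modPowTrans I (n + 1) N = f n) :
    ∃! φ : M ⟶ N, ∀ n, f n = φ ≫ modPowπ I (n + 1) N := by
  classical
  have hbij := toHHlim_bijective_homMod I hM hN hs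
  obtain ⟨c, hc⟩ := exists_kernel_bound I hM hN
  obtain ⟨T, hT⟩ := exists_finite_affine_cover X
  choose s hs' using fun U : X.affineOpens => exists_approx I f hf hM hN U.2
  have hdiff : ∀ (k : ℕ) (V : X.Opens) (a b : Γ(homMod M N, V)), Approx I f a (k + c) → Approx I f b (k + c) →
      (modPowπ I (k + 1) (homMod M N)).app V a = (modPowπ I (k + 1) (homMod M N)).app V b := by
    intro k V a b ha hb
    rw [← sub_eq_zero, ← map_sub]
    refine hc (k + 1) V (a - b) ?_
    rw [map_sub, sub_eq_zero, show k + 1 + c = k + c + 1 by omega]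
    exact ha.trans hb.symm
  have hglue : ∀ k : ℕ, ∃ h : Γ(modPow I (k + 1) (homMod M N), ⊤), ∀ U : {U : X.affineOpens // U ∈ T},
      rs _ (le_top : U.1.1 ≤ ⊤) h = (modPowπ I (k + 1) (homMod M N)).app U.1.1 (s U.1 (k + c)) := fun k => by
    refine exists_glue _ (fun U : {U : X.affineOpens // U ∈ T} => U.1.1) (fun _ => le_top)
      (fun x _ => ?_) _ fun U V => ?_
    · obtain ⟨U, hU, hxU⟩ := hT x
      exact Opens.mem_iSup.2 ⟨⟨U, hU⟩, hxU⟩
    · rw [← app_rs, ← app_rs]
      exact hdiff k _ _ _ ((hs' U.1 (k + c)).res I f _) ((hs' V.1 (k + c)).res I f _)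
  choose h hh using hglue
  have hcov : (⊤ : X.Opens) ≤ ⨆ U : {U : X.affineOpens // U ∈ T}, U.1.1 := fun x _ => by
    obtain ⟨U, hU, hxU⟩ := hT x
    exact Opens.mem_iSup.2 ⟨⟨U, hU⟩, hxU⟩
  let z : ∀ n, Formal.HHmodPow I (homMod M N) 0 n := fun n => (h0Equiv _).symm (h n)
  have hz : z ∈ Formal.HHlim I (homMod M N) 0 := fun n => (h0Equiv _).injective (by
    show h0Equiv _ (CategoryTheory.Sheaf.H.map _ 0 _) = _
    rw [h0Equiv_map, AddEquiv.apply_symm_apply, AddEquiv.apply_symm_apply]
    refine ext_cover _ (fun U : {U : X.affineOpens // U ∈ T} => U.1.1) (fun _ => le_top) hcov fun U => ?_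
    rw [← app_rs, hh, hh, ← modPowπ_trans I (n + 1) (homMod M N)]
    have e := hdiff n U.1.1 _ _ ((hs' U.1 (n + 1 + c)).mono I f hf (by omega)) (hs' U.1 (n + c))
    rw [← modPowπ_trans I (n + 1) (homMod M N)] at e
    exact e)
  obtain ⟨y, hy⟩ := hbij.2 ⟨z, hz⟩
  let φ : M ⟶ N := (globalEquiv M N).symm (h0Equiv _ y)
  have hφ : ∀ k, (modPowπ I (k + 1) (homMod M N)).app ⊤ (globalEquiv M N φ) = h k := fun k => by
    have e : h0Equiv _ (Formal.toHHmodPow I (homMod M N) 0 k y) = h k := by
      rw [show Formal.toHHmodPow I (homMod M N) 0 k y = z k from congrFun (congrArg Subtype.val hy) k]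
      exact AddEquiv.apply_symm_apply _ _
    rw [AddEquiv.apply_symm_apply, ← e]
    exact (h0Equiv_map _ y).symm
  have hθ : ∀ (k : ℕ) (a : A), a ∈ I ^ (k + 1) →
      smulMod A (homMod M N) a ≫ post M (modPowπ I (k + 1) N) = 0 := fun k a ha => by
    rw [← post_smulMod, ← post_comp, Rees.smulMod_modPowπ I N ha, post_zero]
  have hbar : ∀ k, ∃ g : modPow I (k + 1) (homMod M N) ⟶ homMod M (modPow I (k + 1) N),
      modPowπ I (k + 1) (homMod M N) ≫ g = post M (modPowπ I (k + 1) N) := fun k => by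
    refine ⟨cokernel.desc _ (post M (modPowπ I (k + 1) N)) ?_, cokernel.π_desc _ _ _⟩
    apply Sigma.hom_ext
    intro a
    rw [comp_zero, Formal.smulFamily, Sigma.ι_desc_assoc]
    exact hθ k a a.2
  choose g hg using hbar
  refine ⟨φ, fun k => ?_, fun φ' hφ' => ?_⟩
  · refine (globalEquiv M _).injective ?_
    rw [globalEquiv_post, ← hg]
    show _ = (g k).app ⊤ ((modPowπ I (k + 1) (homMod M N)).app ⊤ (globalEquiv M N φ))
    rw [hφ]
    refine ext_cover _ (fun U : {U : X.affineOpens // U ∈ T} => U.1.1) (fun _ => le_top) hcov fun U => ?_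
    rw [← app_rs, hh]
    have e : Approx I f (s U.1 (k + c)) k := (hs' U.1 (k + c)).mono I f hf (by omega)
    rw [Approx, ← hg] at e
    exact e.symm
  · have hy' : Formal.toHHlim I (homMod M N) 0 ((h0Equiv _).symm (globalEquiv M N φ')) = ⟨z, hz⟩ := by
      refine Subtype.ext (funext fun k => (h0Equiv _).injective ?_)
      show h0Equiv _ (CategoryTheory.Sheaf.H.map _ 0 _) = _
      rw [h0Equiv_map, AddEquiv.apply_symm_apply, AddEquiv.apply_symm_apply]
      refine ext_cover _ (fun U : {U : X.affineOpens // U ∈ T} => U.1.1) (fun _ => le_top) hcov fun U => ?_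
      rw [← app_rs, hh]
      refine hdiff k _ _ _ ?_ (hs' U.1 (k + c))
      show (post M (modPowπ I (k + c + 1) N)).app U.1.1 (rs _ le_top (globalEquiv M N φ')) = _
      rw [app_rs, ← globalEquiv_post, ← hφ' (k + c)]
    have e := hbij.1 (hy'.trans hy.symm)
    rw [← (globalEquiv M N).symm_apply_apply φ', ← (h0Equiv _).apply_symm_apply (globalEquiv M N φ'), e]

include hM hN in
/-- Completion is fully faithful, in terms of inverse systems. -/
theorem existsUnique_of_completion
    (hs : ClSub.IsProperOver (X ↘ Spec (CommRingCat.of A)) (CohB1.support M ∩ CohB1.support N))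
    (ψ : Formal.completion I M ⟶ Formal.completion I N) :
    ∃! φ : M ⟶ N, ∀ n : ℕ, modPowπ I (n + 1) M ≫ ψ.app (op n) = φ ≫ modPowπ I (n + 1) N := by
  refine existsUnique_hom I hM hN hs (fun n => modPowπ I (n + 1) M ≫ ψ.app (op n)) fun n => ?_
  have hn := ψ.naturality (homOfLE (Nat.le_succ n)).op
  simp only [Formal.completion, Functor.ofOpSequence_map_homOfLE_succ] at hn
  show (modPowπ I (n + 1 + 1) M ≫ ψ.app (op (n + 1))) ≫ modPowTrans I (n + 1) N = _
  rw [← modPowπ_trans I (n + 1) M, Category.assoc, Category.assoc]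
  exact congrArg (fun t => modPowπ I (n + 1 + 1) M ≫ t) hn.symm

end Groth.L16.HomSh
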