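import Groth.Agent.L16.QcqsPush
import Mathlib.Algebra.Category.ModuleCat.Presheaf
import Mathlib.Algebra.Module.FinitePresentation

/-!
The sheaf of homomorphisms between two modules on a scheme, by compatible families.
-/

set_option autoImplicit false
set_option backward.isDefEq.respectTransparency false
set_option backward.isDefEq.respectTransparency.types false

universe u

open CategoryTheory AlgebraicGeometry TopologicalSpace Opposite

noncomputable section

namespace Groth.L16.HomSh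

open Groth.L18.Frame (rs ro rs_rs ro_ro rs_smul rs_self ro_self)

variable {X : Scheme.{u}} (M N : X.Modules)

theorem ext_cover (N : X.Modules) {ι : Type u} (V : ι → X.Opens) {W : X.Opens} (le : ∀ i, V i ≤ W)
    (cov : W ≤ iSup V) {s t : Γ(N, W)} (h : ∀ i, rs N (le i) s = rs N (le i) t) : s = t :=
  TopCat.Sheaf.eq_of_locally_eq' (⟨N.presheaf, N.isSheaf⟩ : TopCat.Sheaf Ab.{u} X)
    V W (fun i => homOfLE (le i)) cov s t h

theorem exists_glue (N : X.Modules) {ι : Type u} (V : ι → X.Opens) {W : X.Opens} (le : ∀ i, V i ≤ W)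
    (cov : W ≤ iSup V) (s : ∀ i, Γ(N, V i))
    (hc : ∀ i j, rs N (inf_le_left : V i ⊓ V j ≤ V i) (s i) = rs N (inf_le_right : V i ⊓ V j ≤ V j) (s j)) :
    ∃ y : Γ(N, W), ∀ i, rs N (le i) y = s i := by
  obtain ⟨y, hy, -⟩ := TopCat.Sheaf.existsUnique_gluing'
    (⟨N.presheaf, N.isSheaf⟩ : TopCat.Sheaf Ab.{u} X) V W (fun i => homOfLE (le i)) cov s (fun i j => hc i j)
  exact ⟨y, hy⟩

/-- A compatible family of linear maps on the opens inside `U`. -/
def IsFam (U : X.Opens) (φ : ∀ W : {W : X.Opens // W ≤ U}, (Γ(M, W.1) →+ Γ(N, W.1))) : Prop :=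
  (∀ (W W' : X.Opens) (h : W ≤ U) (h' : W' ≤ W) (x : Γ(M, W)),
    rs N h' (φ ⟨W, h⟩ x) = φ ⟨W', h'.trans h⟩ (rs M h' x)) ∧
  ∀ (W : X.Opens) (h : W ≤ U) (a : Γ(X, W)) (x : Γ(M, W)), φ ⟨W, h⟩ (a • x) = a • φ ⟨W, h⟩ x

/-- Families of linear maps. -/
def famGroup (U : X.Opens) : AddSubgroup (∀ W : {W : X.Opens // W ≤ U}, (Γ(M, W.1) →+ Γ(N, W.1))) where
  carrier := {φ | IsFam M N U φ}
  zero_mem' := ⟨fun _ _ _ _ _ => map_zero _, fun _ _ a _ => (smul_zero a).symm⟩
  add_mem' := fun {φ ψ} hφ hψ => ⟨fun W W' h h' x => by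
      show rs N h' (φ ⟨W, h⟩ x + ψ ⟨W, h⟩ x) = φ ⟨W', _⟩ _ + ψ ⟨W', _⟩ _
      rw [← hφ.1 W W' h h', ← hψ.1 W W' h h']
      exact map_add _ _ _,
    fun W h a x => by
      show φ ⟨W, h⟩ (a • x) + ψ ⟨W, h⟩ (a • x) = a • (φ ⟨W, h⟩ x + ψ ⟨W, h⟩ x)
      rw [hφ.2, hψ.2, smul_add]⟩
  neg_mem' := fun {φ} hφ => ⟨fun W W' h h' x => by
      show rs N h' (-φ ⟨W, h⟩ x) = -φ ⟨W', _⟩ _
      rw [← hφ.1 W W' h h']
      exact map_neg _ _,
    fun W h a x => by
      show -φ ⟨W, h⟩ (a • x) = a • -φ ⟨W, h⟩ x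
      rw [hφ.2, smul_neg]⟩

/-- Sections of the sheaf of homomorphisms. -/
abbrev Sec (U : X.Opens) : Type u := famGroup M N U

variable {M N}

/-- Evaluation of a section. -/
def ev {U : X.Opens} (φ : Sec M N U) {W : X.Opens} (h : W ≤ U) : Γ(M, W) →+ Γ(N, W) := φ.1 ⟨W, h⟩

theorem ev_rs {U : X.Opens} (φ : Sec M N U) {W W' : X.Opens} (h : W ≤ U) (h' : W' ≤ W) (x : Γ(M, W)) :
    rs N h' (ev φ h x) = ev φ (h'.trans h) (rs M h' x) := φ.2.1 W W' h h' x

theorem ev_smul {U : X.Opens} (φ : Sec M N U) {W : X.Opens} (h : W ≤ U) (a : Γ(X, W)) (x : Γ(M, W)) :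
    ev φ h (a • x) = a • ev φ h x := φ.2.2 W h a x

theorem sec_ext {U : X.Opens} {φ ψ : Sec M N U}
    (e : ∀ (W : X.Opens) (h : W ≤ U) (x : Γ(M, W)), ev φ h x = ev ψ h x) : φ = ψ :=
  Subtype.ext (funext fun W => AddMonoidHom.ext (e W.1 W.2))

/-- A function times a section. -/
def smulSec {U : X.Opens} (r : Γ(X, U)) (φ : Sec M N U) : Sec M N U :=
  ⟨fun W => (DistribSMul.toAddMonoidHom Γ(N, W.1) (ro W.2 r)).comp (φ.1 W),
    fun W W' h h' x => by
      show rs N h' (ro h r • ev φ h x) = ro (h'.trans h) r • ev φ (h'.trans h) (rs M h' x)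
      rw [rs_smul, ro_ro, ev_rs],
    fun W h a x => by
      show ro h r • ev φ h (a • x) = a • ro h r • ev φ h x
      rw [ev_smul, smul_comm]⟩

instance secModule (U : X.Opens) : Module (X.presheaf.obj (op U)) (Sec M N U) where
  smul := smulSec
  one_smul φ := sec_ext fun W h x => by
    show ro h (1 : Γ(X, U)) • ev φ h x = _
    rw [show ro h (1 : Γ(X, U)) = 1 from map_one _, one_smul]
  mul_smul r r' φ := sec_ext fun W h x => by
    show ro h (r * r' : Γ(X, U)) • ev φ h x = ro h r • ro h r' • ev φ h x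
    rw [show ro h (r * r' : Γ(X, U)) = ro h r * ro h r' from map_mul _ _ _, mul_smul]
  smul_zero r := sec_ext fun W h x => smul_zero _
  smul_add r φ ψ := sec_ext fun W h x => smul_add _ _ _
  add_smul r r' φ := sec_ext fun W h x => by
    show ro h (r + r' : Γ(X, U)) • ev φ h x = ro h r • ev φ h x + ro h r' • ev φ h x
    rw [show ro h (r + r' : Γ(X, U)) = ro h r + ro h r' from map_add _ _ _, add_smul]
  zero_smul φ := sec_ext fun W h x => by
    show ro h (0 : Γ(X, U)) • ev φ h x = 0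
    rw [show ro h (0 : Γ(X, U)) = 0 from map_zero _, zero_smul]

theorem ev_smulSec {U : X.Opens} (r : Γ(X, U)) (φ : Sec M N U) {W : X.Opens} (h : W ≤ U) (x : Γ(M, W)) :
    ev (r • φ) h x = ro h r • ev φ h x := rfl

/-- Restriction. -/
def resSec {U V : X.Opens} (h : V ≤ U) : Sec M N U →+ Sec M N V where
  toFun φ := ⟨fun W => φ.1 ⟨W.1, W.2.trans h⟩, fun W W' hW h' x => φ.2.1 W W' (hW.trans h) h' x,
    fun W hW a x => φ.2.2 W (hW.trans h) a x⟩
  map_zero' := rfl
  map_add' _ _ := rfl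

variable (M N)

/-- The presheaf of homomorphisms. -/
def abPre : X.Opensᵒᵖ ⥤ Ab.{u} where
  obj U := AddCommGrpCat.of (Sec M N U.unop)
  map {U V} i := AddCommGrpCat.ofHom (resSec i.unop.le)

instance (U : X.Opensᵒᵖ) :
    Module ((X.presheaf ⋙ forget₂ CommRingCat RingCat).obj U) ((abPre M N).obj U) :=
  secModule U.unop

theorem abPre_map_smul ⦃U V : X.Opensᵒᵖ⦄ (i : U ⟶ V)
    (r : (X.presheaf ⋙ forget₂ CommRingCat RingCat).obj U) (m : (abPre M N).obj U) :
    (abPre M N).map i (r • m) =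
      (X.presheaf ⋙ forget₂ CommRingCat RingCat).map i r • (abPre M N).map i m :=
  sec_ext fun W h x => by
    show ro (h.trans i.unop.le) (show Γ(X, U.unop) from r) • ev (show Sec M N U.unop from m) _ x =
      ro h (ro i.unop.le (show Γ(X, U.unop) from r)) • _
    rw [ro_ro]
    rfl

theorem abPre_isSheaf : TopCat.Presheaf.IsSheaf (abPre M N) := by
  rw [TopCat.Presheaf.isSheaf_iff_isSheafUniqueGluing]
  intro ι U sf hc
  have hsf : ∀ (i j : ι) (W : X.Opens) (hi : W ≤ U i) (hj : W ≤ U j) (x : Γ(M, W)),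
      ev (show Sec M N (U i) from sf i) hi x = ev (show Sec M N (U j) from sf j) hj x :=
    fun i j W hi hj x => congrArg (fun φ : Sec M N (U i ⊓ U j) => ev φ (le_inf hi hj) x) (hc i j)
  have key : ∀ (W : X.Opens) (_ : W ≤ iSup U) (x : Γ(M, W)), ∃ y : Γ(N, W),
      ∀ i, rs N (inf_le_left : W ⊓ U i ≤ W) y =
        ev (show Sec M N (U i) from sf i) inf_le_right (rs M (inf_le_left : W ⊓ U i ≤ W) x) := by
    intro W hW x
    refine exists_glue N (fun i => W ⊓ U i) (fun i => inf_le_left) ?_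
      (fun i => ev (show Sec M N (U i) from sf i) inf_le_right (rs M inf_le_left x)) fun i j => ?_
    · rw [← inf_iSup_eq]
      exact le_inf le_rfl hW
    · rw [ev_rs, ev_rs, rs_rs, rs_rs]
      exact hsf i j _ _ _ _
  choose g hg using key
  have gu : ∀ (W : X.Opens) (hW : W ≤ iSup U) (x : Γ(M, W)) (y : Γ(N, W)),
      (∀ i, rs N (inf_le_left : W ⊓ U i ≤ W) y =
        ev (show Sec M N (U i) from sf i) inf_le_right (rs M (inf_le_left : W ⊓ U i ≤ W) x)) → y = g W hW x :=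
    fun W hW x y hy => ext_cover N (fun i => W ⊓ U i) (fun i => inf_le_left)
      (by rw [← inf_iSup_eq]; exact le_inf le_rfl hW) fun i => (hy i).trans (hg W hW x i).symm
  refine ⟨(⟨fun ⟨W, hW⟩ => AddMonoidHom.mk' (g W hW) fun x y => ?_, fun W W' hW h' x => ?_,
    fun W hW a x => ?_⟩ : Sec M N (iSup U)), fun i => sec_ext fun W hW x => ?_,
    fun t ht => sec_ext fun W hW x => ?_⟩
  · symm
    refine gu _ _ _ _ fun i => ?_
    rw [show rs N (inf_le_left : W ⊓ U i ≤ W) (g W hW x + g W hW y) =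
      rs N inf_le_left (g W hW x) + rs N inf_le_left (g W hW y) from map_add _ _ _, hg, hg, ← map_add]
    exact congrArg _ (map_add _ _ _).symm
  · refine gu _ _ _ _ fun i => ?_
    show rs N _ (rs N h' (g W hW x)) = _
    have e := congrArg (rs N (inf_le_inf_right (U i) h' : W' ⊓ U i ≤ W ⊓ U i)) (hg W hW x i)
    rw [rs_rs] at e ⊢
    refine e.trans ?_
    rw [ev_rs, rs_rs, rs_rs]
  · symm
    refine gu _ _ _ _ fun i => ?_
    show rs N _ (a • g W hW x) = _
    rw [rs_smul, hg, rs_smul, ev_smul]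
  · show g W _ x = ev (show Sec M N (U i) from sf i) hW x
    symm
    refine gu _ _ _ _ fun j => ?_
    rw [ev_rs]
    exact hsf i j _ _ _ _
  · refine gu _ _ _ _ fun i => ?_
    rw [ev_rs]
    exact congrArg (fun φ : Sec M N (U i) => ev φ inf_le_right (rs M (inf_le_left : W ⊓ U i ≤ W) x)) (ht i)

/-- The sheaf of homomorphisms. -/
def homMod : X.Modules where
  val := PresheafOfModules.ofPresheaf (R := X.presheaf ⋙ forget₂ CommRingCat RingCat) (abPre M N)
    (abPre_map_smul M N)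
  isSheaf := abPre_isSheaf M N

variable {M N}

/-- Sections of the sheaf of homomorphisms are families. -/
def secEquiv (U : X.Opens) : Γ(homMod M N, U) ≃ₗ[Γ(X, U)] Sec M N U :=
  { Equiv.refl (Sec M N U) with
    map_add' := fun _ _ => rfl
    map_smul' := fun _ _ => rfl }

theorem secEquiv_rs {U V : X.Opens} (h : V ≤ U) (s : Γ(homMod M N, U)) {W : X.Opens} (hW : W ≤ V)
    (x : Γ(M, W)) : ev (secEquiv V (rs (homMod M N) h s)) hW x = ev (secEquiv U s) (hW.trans h) x := rfl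

/-- Postcomposition on sections. -/
def postSec {N' : X.Modules} (g : N ⟶ N') (U : X.Opens) : Sec M N U →+ Sec M N' U where
  toFun φ := ⟨fun W => (g.app W.1).hom.comp (φ.1 W),
    fun W W' h h' x => by
      show rs N' h' (g.app W (ev φ h x)) = g.app W' (ev φ (h'.trans h) (rs M h' x))
      rw [← ev_rs]
      exact (congr($(g.mapPresheaf.naturality (homOfLE h').op) (ev φ h x))).symm,
    fun W h a x => by
      show g.app W (ev φ h (a • x)) = a • g.app W (ev φ h x)
      rw [ev_smul]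
      exact g.app_smul _ _⟩
  map_zero' := sec_ext fun W h x => map_zero (g.app W).hom
  map_add' φ ψ := sec_ext fun W h x => map_add (g.app W).hom _ _

variable (M)

/-- Postcomposition. -/
def post {N N' : X.Modules} (g : N ⟶ N') : homMod M N ⟶ homMod M N' :=
  ⟨PresheafOfModules.homMk
    { app := fun U => AddCommGrpCat.ofHom (postSec (M := M) g U.unop)
      naturality := fun _ _ _ => rfl }
    (fun U r m => sec_ext fun W h x => g.app_smul _ _)⟩

variable {M}

theorem ev_post {N N' : X.Modules} (g : N ⟶ N') (U : X.Opens) (s : Γ(homMod M N, U)) {W : X.Opens}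
    (h : W ≤ U) (x : Γ(M, W)) :
    ev (secEquiv U ((post M g).app U s)) h x = g.app W (ev (secEquiv U s) h x) := rfl

theorem hom_ext_ev {P : X.Modules} {N : X.Modules} {α β : P ⟶ homMod M N}
    (e : ∀ (U : X.Opens) (s : Γ(P, U)) (W : X.Opens) (h : W ≤ U) (x : Γ(M, W)),
      ev (secEquiv U (α.app U s)) h x = ev (secEquiv U (β.app U s)) h x) : α = β := by
  refine Scheme.Modules.hom_ext _ _ fun U => ?_
  ext s
  exact sec_ext fun W h x => e U s W h x

theorem post_comp {N N' N'' : X.Modules} (g : N ⟶ N') (g' : N' ⟶ N'') :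
    post M (g ≫ g') = post M g ≫ post M g' := hom_ext_ev fun _ _ _ _ _ => rfl

theorem post_id (N : X.Modules) : post M (𝟙 N) = 𝟙 (homMod M N) := hom_ext_ev fun _ _ _ _ _ => rfl

theorem post_zero (N N' : X.Modules) : post M (0 : N ⟶ N') = 0 := hom_ext_ev fun _ _ _ _ _ => rfl

theorem post_add {N N' : X.Modules} (g g' : N ⟶ N') : post M (g + g') = post M g + post M g' :=
  hom_ext_ev fun _ _ _ _ _ => rfl

/-- Global sections are morphisms. -/
def ofHom (φ : M ⟶ N) : Sec M N ⊤ :=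
  ⟨fun W => (φ.app W.1).hom,
    fun W W' _ h' x => (congr($(φ.mapPresheaf.naturality (homOfLE h').op) x)).symm,
    fun W _ a x => φ.app_smul a x⟩

/-- The morphism of a global section. -/
def toHom (s : Sec M N ⊤) : M ⟶ N :=
  ⟨PresheafOfModules.homMk
    { app := fun U => AddCommGrpCat.ofHom (ev s (le_top : U.unop ≤ ⊤))
      naturality := fun U V i => by
        ext x
        exact (ev_rs s le_top i.unop.le x).symm }
    (fun U r m => ev_smul s le_top _ _)⟩

theorem toHom_app (s : Sec M N ⊤) (W : X.Opens) (x : Γ(M, W)) : (toHom s).app W x = ev s le_top x := rfl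

variable (M N)

/-- Morphisms are global sections. -/
def globalEquiv : (M ⟶ N) ≃+ Γ(homMod M N, ⊤) where
  toFun φ := (secEquiv ⊤).symm (ofHom φ)
  invFun s := toHom (secEquiv ⊤ s)
  left_inv φ := by
    refine Scheme.Modules.hom_ext _ _ fun U => ?_
    ext x
    rfl
  right_inv s := sec_ext fun W h x => rfl
  map_add' φ ψ := sec_ext fun W h x => rfl

theorem globalEquiv_comp {N' : X.Modules} (φ : M ⟶ N) (g : N ⟶ N') :
    globalEquiv M N' (φ ≫ g) = (post M g).app ⊤ (globalEquiv M N φ) := sec_ext fun _ _ _ => rfl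

section Affine

variable {M N}
variable {U : X.Opens} (hU : IsAffineOpen U) [Coh.IsQCoh M]

theorem isUnit_ro_pow (f : Γ(X, U)) (n : ℕ) : IsUnit (ro (X.basicOpen_le f) (f ^ n)) := by
  rw [show ro (X.basicOpen_le f) (f ^ n) = ro (X.basicOpen_le f) f ^ n from map_pow _ _ _]
  exact (X.toRingedSpace.isUnit_res_basicOpen f).pow n

/-- `y` is the value at `x` of the extension of `ℓ`. -/
def IsVal (ℓ : Γ(M, U) →ₗ[Γ(X, U)] Γ(N, U)) {W : X.Opens} (x : Γ(M, W)) (y : Γ(N, W)) : Prop :=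
  ∀ (f : Γ(X, U)) (hf : X.basicOpen f ≤ W), ∃ (n : ℕ) (m : Γ(M, U)),
    rs M (X.basicOpen_le f) m = ro (X.basicOpen_le f) (f ^ n) • rs M hf x ∧
    rs N (X.basicOpen_le f) (ℓ m) = ro (X.basicOpen_le f) (f ^ n) • rs N hf y

include hU in
theorem val_unique (ℓ : Γ(M, U) →ₗ[Γ(X, U)] Γ(N, U)) {f : Γ(X, U)} {n n' : ℕ} {m m' : Γ(M, U)}
    {V : X.Opens} (hV : V ≤ X.basicOpen f) {x : Γ(M, V)}
    (hm : rs M (hV.trans (X.basicOpen_le f)) m = ro (hV.trans (X.basicOpen_le f)) (f ^ n) • x)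
    {g : Γ(X, U)} (hVg : V ≤ X.basicOpen g) (hfg : V = X.basicOpen (f * g))
    (hm' : rs M (hVg.trans (X.basicOpen_le g)) m' = ro (hVg.trans (X.basicOpen_le g)) (g ^ n') • x) :
    ro (hV.trans (X.basicOpen_le f)) (g ^ n') • rs N (hV.trans (X.basicOpen_le f)) (ℓ m) =
      ro (hV.trans (X.basicOpen_le f)) (f ^ n) • rs N (hV.trans (X.basicOpen_le f)) (ℓ m') := by
  subst hfg
  have h0 : rs M (X.basicOpen_le (f * g)) (g ^ n' • m - f ^ n • m') = 0 := by
    refine (map_sub _ _ _).trans (sub_eq_zero.2 ?_)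
    show rs M _ (g ^ n' • m) = rs M _ (f ^ n • m')
    rw [rs_smul, rs_smul, hm, hm', smul_comm]
  obtain ⟨k, hk⟩ := QCohSect.exists_pow_smul_eq_zero hU M (f * g) _ h0
  have h1 : (f * g) ^ k • (g ^ n' • ℓ m - f ^ n • ℓ m') = 0 := by
    rw [← map_smul, ← map_smul, ← map_sub, ← map_smul, hk, map_zero]
  have h2 := congrArg (rs N (X.basicOpen_le (f * g))) h1
  rw [rs_smul] at h2
  have h3 := (isUnit_ro_pow (f * g) k).smul_eq_zero.1 (h2.trans (map_zero _))
  rw [show rs N (X.basicOpen_le (f * g)) (g ^ n' • ℓ m - f ^ n • ℓ m') = _ from map_sub _ _ _] at h3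
  have h4 := sub_eq_zero.1 h3
  change rs N _ (g ^ n' • ℓ m) = rs N _ (f ^ n • ℓ m') at h4
  rw [rs_smul, rs_smul] at h4
  exact h4

include hU in
theorem iSup_basicOpen_eq {W : X.Opens} (hW : W ≤ U) :
    W ≤ ⨆ f : {f : Γ(X, U) // X.basicOpen f ≤ W}, X.basicOpen f.1 := fun x hx => by
  obtain ⟨f, hf, hxf⟩ := hU.exists_basicOpen_le ⟨x, hx⟩ (hW hx)
  exact Opens.mem_iSup.2 ⟨⟨f, hf⟩, hxf⟩

include hU in
theorem isVal_unique (ℓ : Γ(M, U) →ₗ[Γ(X, U)] Γ(N, U)) {W : X.Opens} (hW : W ≤ U) {x : Γ(M, W)}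
    {y y' : Γ(N, W)} (h : IsVal ℓ x y) (h' : IsVal ℓ x y') : y = y' := by
  refine ext_cover N (fun f : {f : Γ(X, U) // X.basicOpen f ≤ W} => X.basicOpen f.1) (fun f => f.2)
    (iSup_basicOpen_eq hU hW) fun ⟨f, hf⟩ => ?_
  obtain ⟨n, m, hm, hy⟩ := h f hf
  obtain ⟨n', m', hm', hy'⟩ := h' f hf
  have e := val_unique hU ℓ le_rfl hm le_rfl ((inf_idem _).symm.trans (RingedSpace.basicOpen_mul (X := X.toRingedSpace) f f).symm) hm'
  rw [hy, hy', ← mul_smul, ← mul_smul, mul_comm] at e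
  exact ((isUnit_ro_pow f n).mul (isUnit_ro_pow f n')).smul_left_cancel.1 e

include hU in
theorem exists_isVal (ℓ : Γ(M, U) →ₗ[Γ(X, U)] Γ(N, U)) {W : X.Opens} (hW : W ≤ U) (x : Γ(M, W)) :
    ∃ y, IsVal ℓ x y := by
  classical
  have h : ∀ f : {f : Γ(X, U) // X.basicOpen f ≤ W}, ∃ (n : ℕ) (m : Γ(M, U)) (z : Γ(N, X.basicOpen f.1)),
      rs M (X.basicOpen_le f.1) m = ro (X.basicOpen_le f.1) (f.1 ^ n) • rs M f.2 x ∧
      rs N (X.basicOpen_le f.1) (ℓ m) = ro (X.basicOpen_le f.1) (f.1 ^ n) • z := by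
    intro f
    obtain ⟨n, m, hm⟩ := QCohSect.exists_pow_smul_eq_res hU M f.1 (rs M f.2 x)
    refine ⟨n, m, (((isUnit_ro_pow f.1 n).unit⁻¹ : Γ(X, X.basicOpen f.1)ˣ) : Γ(X, X.basicOpen f.1)) • rs N (X.basicOpen_le f.1) (ℓ m), hm, ?_⟩
    rw [← mul_smul, IsUnit.mul_val_inv, one_smul]
  choose n m z hm hz using h
  obtain ⟨y, hy⟩ := exists_glue N (fun f : {f : Γ(X, U) // X.basicOpen f ≤ W} => X.basicOpen f.1)
    (fun f => f.2) (iSup_basicOpen_eq hU hW) z fun i j => by
      have e := val_unique hU ℓ (f := i.1) (n := n i) (n' := n j) (m := m i) (m' := m j)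
        (V := X.basicOpen i.1 ⊓ X.basicOpen j.1) inf_le_left
        (x := rs M (inf_le_left.trans i.2) x)
        (by
          have := congrArg (rs M (inf_le_left : X.basicOpen i.1 ⊓ X.basicOpen j.1 ≤ _)) (hm i)
          rw [rs_rs, rs_smul, rs_rs, ro_ro] at this
          exact this)
        inf_le_right (RingedSpace.basicOpen_mul (X := X.toRingedSpace) i.1 j.1).symm
        (by
          have := congrArg (rs M (inf_le_right : X.basicOpen i.1 ⊓ X.basicOpen j.1 ≤ _)) (hm j)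
          rw [rs_rs, rs_smul, rs_rs, ro_ro] at this
          exact this)
      have hi := congrArg (rs N (inf_le_left : X.basicOpen i.1 ⊓ X.basicOpen j.1 ≤ _)) (hz i)
      have hj := congrArg (rs N (inf_le_right : X.basicOpen i.1 ⊓ X.basicOpen j.1 ≤ _)) (hz j)
      rw [rs_rs, rs_smul, ro_ro] at hi hj
      rw [hi, hj, ← mul_smul, ← mul_smul, mul_comm] at e
      refine (IsUnit.smul_left_cancel (IsUnit.mul ?_ ?_)).1 e
      · rw [← ro_ro (X.basicOpen_le i.1) inf_le_left]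
        exact (isUnit_ro_pow i.1 (n i)).map (X.presheaf.map _).hom
      · rw [← ro_ro (X.basicOpen_le j.1) inf_le_right]
        exact (isUnit_ro_pow j.1 (n j)).map (X.presheaf.map _).hom
  exact ⟨y, fun f hf => ⟨n ⟨f, hf⟩, m ⟨f, hf⟩, hm ⟨f, hf⟩, by rw [hy ⟨f, hf⟩]; exact hz ⟨f, hf⟩⟩⟩

include hU in
theorem exists_sec_of_linear (ℓ : Γ(M, U) →ₗ[Γ(X, U)] Γ(N, U)) :
    ∃ φ : Sec M N U, ∀ x : Γ(M, U), ev φ le_rfl x = ℓ x := by
  classical
  choose g hg using fun (W : X.Opens) (hW : W ≤ U) (x : Γ(M, W)) => exists_isVal hU ℓ hW x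
  refine ⟨⟨fun ⟨W, hW⟩ => AddMonoidHom.mk' (g W hW) fun x y => ?_, fun W W' hW h' x => ?_,
    fun W hW a x => ?_⟩, fun x => ?_⟩
  · refine isVal_unique hU ℓ hW (hg W hW _) fun f hf => ?_
    obtain ⟨n, m, hm, hv⟩ := hg W hW x f hf
    obtain ⟨n', m', hm', hv'⟩ := hg W hW y f hf
    refine ⟨n + n', f ^ n' • m + f ^ n • m', ?_, ?_⟩
    · rw [show rs M (X.basicOpen_le f) (f ^ n' • m + f ^ n • m') = _ from map_add _ _ _,
        show rs M hf (x + y) = rs M hf x + rs M hf y from map_add _ _ _]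
      show rs M _ (f ^ n' • m) + rs M _ (f ^ n • m') = _
      rw [rs_smul, rs_smul, hm, hm', ← mul_smul, ← mul_smul, smul_add, pow_add,
        show ro (X.basicOpen_le f) (f ^ n * f ^ n') = _ from map_mul _ _ _, mul_comm]
    · rw [map_add, map_smul, map_smul, show rs N (X.basicOpen_le f) (f ^ n' • ℓ m + f ^ n • ℓ m') = _
        from map_add _ _ _, show rs N hf (g W hW x + g W hW y) = _ from map_add _ _ _]
      show rs N _ (f ^ n' • ℓ m) + rs N _ (f ^ n • ℓ m') = _
      rw [rs_smul, rs_smul, hv, hv', ← mul_smul, ← mul_smul, smul_add, pow_add,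
        show ro (X.basicOpen_le f) (f ^ n * f ^ n') = _ from map_mul _ _ _, mul_comm]
  · refine isVal_unique hU ℓ (h'.trans hW) (fun f hf => ?_) (hg W' _ _)
    obtain ⟨n, m, hm, hv⟩ := hg W hW x f (hf.trans h')
    exact ⟨n, m, by rw [rs_rs]; exact hm, by
      show _ = _ • rs N hf (rs N h' (g W hW x))
      rw [rs_rs]; exact hv⟩
  · refine isVal_unique hU ℓ hW (hg W hW _) fun f hf => ?_
    obtain ⟨n, m, hm, hv⟩ := hg W hW x f hf
    letI : Algebra Γ(X, U) Γ(X, X.basicOpen f) := (X.presheaf.map (homOfLE <| X.basicOpen_le f).op).hom.toAlgebra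
    haveI := hU.isLocalization_basicOpen f
    obtain ⟨⟨b, ⟨_, k, rfl⟩⟩, hb⟩ := IsLocalization.surj (Submonoid.powers f) (ro hf a)
    have hb' : ro (X.basicOpen_le f) b = ro hf a * ro (X.basicOpen_le f) (f ^ k) := hb.symm
    refine ⟨n + k, b • m, ?_, ?_⟩
    · rw [rs_smul, rs_smul, hm, hb', ← mul_smul, ← mul_smul, pow_add,
        show ro (X.basicOpen_le f) (f ^ n * f ^ k) = _ from map_mul _ _ _]
      congr 1
      ring
    · rw [map_smul, rs_smul, hv]
      show _ = _ • rs N hf (a • g W hW x)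
      rw [rs_smul, hb', ← mul_smul, ← mul_smul, pow_add,
        show ro (X.basicOpen_le f) (f ^ n * f ^ k) = _ from map_mul _ _ _]
      congr 1
      ring
  · refine isVal_unique hU ℓ le_rfl (hg U le_rfl x) fun f hf => ⟨0, x, ?_, ?_⟩
    · rw [pow_zero, show ro (X.basicOpen_le f) (1 : Γ(X, U)) = 1 from map_one _, one_smul]
    · rw [pow_zero, show ro (X.basicOpen_le f) (1 : Γ(X, U)) = 1 from map_one _, one_smul]

include hU in
theorem ev_top_injective {φ : Sec M N U} (h : ∀ x : Γ(M, U), ev φ le_rfl x = 0) : φ = 0 := by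
  refine sec_ext fun W hW x => ?_
  show ev φ hW x = 0
  refine ext_cover N (fun f : {f : Γ(X, U) // X.basicOpen f ≤ W} => X.basicOpen f.1) (fun f => f.2)
    (iSup_basicOpen_eq hU hW) fun ⟨f, hf⟩ => ?_
  obtain ⟨n, m, hm⟩ := QCohSect.exists_pow_smul_eq_res hU M f (rs M hf x)
  refine Eq.trans ?_ (map_zero _).symm
  rw [ev_rs]
  refine (isUnit_ro_pow f n).smul_eq_zero.1 ?_
  rw [← ev_smul, ← hm, ← ev_rs φ le_rfl (X.basicOpen_le f) m, h m]
  exact map_zero _

include hU in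
/-- On an affine open, sections are the linear maps of sections. -/
theorem exists_linearEquiv :
    ∃ e : Γ(homMod M N, U) ≃ₗ[Γ(X, U)] (Γ(M, U) →ₗ[Γ(X, U)] Γ(N, U)),
      ∀ s x, e s x = ev (secEquiv U s) le_rfl x := by
  let T : Γ(homMod M N, U) →ₗ[Γ(X, U)] (Γ(M, U) →ₗ[Γ(X, U)] Γ(N, U)) :=
    { toFun := fun s =>
        { toFun := ev (secEquiv U s) le_rfl
          map_add' := map_add _
          map_smul' := fun a x => ev_smul _ _ a x }
      map_add' := fun s t => rfl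
      map_smul' := fun r s => LinearMap.ext fun x => by
        show ev (r • secEquiv U s) le_rfl x = r • ev (secEquiv U s) le_rfl x
        rw [ev_smulSec, ro_self] }
  refine ⟨LinearEquiv.ofBijective T ⟨(injective_iff_map_eq_zero T).2 fun s hs => ?_, fun ℓ => ?_⟩, fun s x => rfl⟩
  · exact (secEquiv U).map_eq_zero_iff.1 (ev_top_injective hU fun x => LinearMap.congr_fun hs x)
  · obtain ⟨φ, hφ⟩ := exists_sec_of_linear hU ℓ
    exact ⟨(secEquiv U).symm φ, LinearMap.ext fun x => hφ x⟩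

end Affine

end Groth.L16.HomSh
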