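import Groth.Agent.L16.HomSh.Adjunction
import Groth.Agent.L17.BC.Sheaf
import Groth.Agent.L19.ProjBdl.Basis
import Groth.Agent.L20.ResDescent

/-!
The sheaf of homomorphisms between finite locally free modules: bases, base change, and the
locus where a local homomorphism is bijective.
-/

set_option autoImplicit false
set_option backward.isDefEq.respectTransparency false
set_option backward.isDefEq.respectTransparency.types false

universe u

open CategoryTheory AlgebraicGeometry TopologicalSpace Opposite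

noncomputable section

namespace Groth.L16.HomSh

open Groth.L18.Frame (rs ro pull rs_rs ro_ro rs_smul rs_self ro_self)
open Groth.L19.ProjBdl (IsBasisOn lc coord lc_coord coord_eq coord_rs rs_lc app_lc rs_sum)

variable {X : Scheme.{u}} {M N : X.Modules} {W : X.Opens} {n m : ℕ}
  {b : Fin n → Γ(M, W)}

theorem lc_single (c : Fin m → Γ(N, W)) {V : X.Opens} (h : V ≤ W) (j : Fin m) :
    lc N c h (Pi.single j 1) = rs N h (c j) := by
  classical
  simp [lc, Pi.single_apply, ite_smul]

theorem coord_basis (hb : IsBasisOn M W b) {V : X.Opens} (h : V ≤ W) (k : Fin n) :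
    coord hb h (rs M h (b k)) = Pi.single k 1 := coord_eq hb h (lc_single b h k)

theorem ev_lc (φ : Sec M N W) {V : X.Opens} (h : V ≤ W) (r : Fin n → Γ(X, V)) :
    ev φ h (lc M b h r) = lc N (fun k => ev φ le_rfl (b k)) h r := by
  refine (map_sum (ev φ h) _ _).trans (Finset.sum_congr rfl fun k _ => ?_)
  rw [ev_smul, ← ev_rs φ le_rfl h]

/-- Homomorphisms out of a module with a basis are determined on the basis. -/
theorem sec_ext_basis (hb : IsBasisOn M W b) {V : X.Opens} (hV : V ≤ W) {φ ψ : Sec M N V}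
    (h : ∀ k, ev φ le_rfl (rs M hV (b k)) = ev ψ le_rfl (rs M hV (b k))) : φ = ψ := sec_ext fun U hU x => by
  rw [← lc_coord (hb.mono hV) hU x, ev_lc, ev_lc, funext h]

/-- The elementary homomorphism. -/
def unitFam (hb : IsBasisOn M W b) (i : Fin n) (y : Γ(N, W)) : Sec M N W :=
  ⟨fun V => AddMonoidHom.mk' (fun (x : Γ(M, V.1)) => (coord hb V.2 x i • rs N V.2 y : Γ(N, V.1))) fun x x' => by
      have e : coord hb V.2 (x + x') = coord hb V.2 x + coord hb V.2 x' := coord_eq hb _ (by
        conv_rhs => rw [← lc_coord hb V.2 x, ← lc_coord hb V.2 x']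
        simp only [lc, Pi.add_apply, add_smul, Finset.sum_add_distrib])
      show coord hb V.2 (x + x') i • rs N V.2 y = coord hb V.2 x i • rs N V.2 y + coord hb V.2 x' i • rs N V.2 y
      rw [e, Pi.add_apply, add_smul],
    fun V V' h h' x => by
      show rs N h' (coord hb h x i • rs N h y) = coord hb (h'.trans h) (rs M h' x) i • rs N (h'.trans h) y
      rw [rs_smul, rs_rs, coord_rs hb h h' x],
    fun V h a x => by
      have e : coord hb h (a • x) = fun k => a * coord hb h x k := coord_eq hb _ (by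
        conv_rhs => rw [← lc_coord hb h x]
        simp only [lc, Finset.smul_sum, mul_smul])
      show coord hb h (a • x) i • rs N h y = a • coord hb h x i • rs N h y
      rw [e, mul_smul]⟩

theorem ev_unitFam (hb : IsBasisOn M W b) (i : Fin n) (y : Γ(N, W)) {V : X.Opens} (h : V ≤ W) (k : Fin n) :
    ev (unitFam hb i y) h (rs M h (b k)) = (Pi.single i (rs N h y) : Fin n → Γ(N, V)) k := by
  classical
  show coord hb h (rs M h (b k)) i • rs N h y = _
  rw [coord_basis]
  by_cases hik : k = i
  · subst hik; simp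
  · simp [hik, Ne.symm hik]

/-- The elementary sections of the sheaf of homomorphisms. -/
def unitBasis (hb : IsBasisOn M W b) (c : Fin m → Γ(N, W)) (a : Fin (n * m)) : Γ(homMod M N, W) :=
  (secEquiv W).symm (unitFam hb (finProdFinEquiv.symm a).1 (c (finProdFinEquiv.symm a).2))

theorem ev_lc_unitBasis (hb : IsBasisOn M W b) (c : Fin m → Γ(N, W)) {V : X.Opens} (h : V ≤ W)
    (r : Fin (n * m) → Γ(X, V)) (k : Fin n) :
    ev (secEquiv V (lc (homMod M N) (unitBasis hb c) h r)) le_rfl (rs M h (b k)) =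
      lc N c h fun j => r (finProdFinEquiv (k, j)) := by
  classical
  let T : Γ(homMod M N, V) →+ Γ(N, V) :=
    AddMonoidHom.mk' (fun s => ev (secEquiv V s) le_rfl (rs M h (b k))) fun s t => rfl
  show T (∑ a, r a • rs (homMod M N) h (unitBasis hb c a)) = _
  rw [map_sum, ← finProdFinEquiv.sum_comp, Fintype.sum_prod_type]
  have key : ∀ (i : Fin n) (j : Fin m), T (r (finProdFinEquiv (i, j)) • rs (homMod M N) h
      (unitBasis hb c (finProdFinEquiv (i, j)))) =
        (Pi.single i (r (finProdFinEquiv (i, j)) • rs N h (c j)) : Fin n → Γ(N, V)) k := fun i j => by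
    show ev (secEquiv V (r (finProdFinEquiv (i, j)) • rs (homMod M N) h (unitBasis hb c (finProdFinEquiv (i, j))))) le_rfl (rs M h (b k)) = _
    rw [map_smul, ev_smulSec, ro_self, secEquiv_rs, unitBasis, LinearEquiv.apply_symm_apply,
      Equiv.symm_apply_apply, ev_unitFam hb i (c j) h k]
    by_cases hik : k = i
    · subst hik; simp
    · simp [hik]
  simp only [key]
  rw [Finset.sum_eq_single k (fun i _ hi => by simp [Pi.single_eq_of_ne (Ne.symm hi)]) (by simp)]
  simp [lc]

/-- A basis of the sheaf of homomorphisms. -/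
theorem isBasisOn_homMod (hb : IsBasisOn M W b) {c : Fin m → Γ(N, W)} (hc : IsBasisOn N W c) :
    IsBasisOn (homMod M N) W (unitBasis hb c) := by
  intro V h
  refine ⟨fun r r' e => funext fun a => ?_, fun s => ?_⟩
  · obtain ⟨⟨k, j⟩, rfl⟩ := finProdFinEquiv.surjective a
    have := congrArg (fun s => ev (secEquiv V s) le_rfl (rs M h (b k))) e
    simp only [ev_lc_unitBasis] at this
    exact congrFun ((hc V h).1 this) j
  · refine ⟨fun a => coord hc h (ev (secEquiv V s) le_rfl (rs M h (b (finProdFinEquiv.symm a).1)))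
      (finProdFinEquiv.symm a).2, (secEquiv V).injective (sec_ext_basis hb h fun k => ?_)⟩
    rw [ev_lc_unitBasis]
    simp only [Equiv.symm_apply_apply]
    exact lc_coord hc h _

/-- A module with bases locally is finite locally free. -/
theorem isFinLocFree_of_bases {P : X.Modules}
    (h : ∀ x : X, ∃ (W : X.Opens) (n : ℕ) (b : Fin n → Γ(P, W)), x ∈ W ∧ IsBasisOn P W b) :
    FlatMod.IsFinLocFree P := fun x => by
  obtain ⟨W, n, b, hx, hb⟩ := h x
  obtain ⟨e⟩ := Groth.L20.ResDescent.nonempty_iso_free (le_of_eq (W.ι_preimage_self).symm) (hb.pullback W.ι)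
  exact ⟨W, n, hx, ⟨(Scheme.Modules.restrictFunctorIsoPullback W.ι).app P ≪≫ e⟩⟩

/-- Bases of two modules near a point. -/
theorem exists_bases (hM : FlatMod.IsFinLocFree M) (hN : FlatMod.IsFinLocFree N) (x : X) (O : X.Opens)
    (hx : x ∈ O) : ∃ (W : X.Opens) (n m : ℕ) (b : Fin n → Γ(M, W)) (c : Fin m → Γ(N, W)),
      x ∈ W ∧ W ≤ O ∧ IsBasisOn M W b ∧ IsBasisOn N W c := by
  obtain ⟨V, n, b, -, hxV, hVO, hb⟩ := Groth.L19.ProjBdl.exists_basisOn hM x O hx
  obtain ⟨W, m, c, -, hxW, hWV, hc⟩ := Groth.L19.ProjBdl.exists_basisOn hN x V hxV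
  exact ⟨W, n, m, _, c, hxW, hWV.trans hVO, hb.mono hWV, hc⟩

theorem isFinLocFree_homMod (hM : FlatMod.IsFinLocFree M) (hN : FlatMod.IsFinLocFree N) :
    FlatMod.IsFinLocFree (homMod M N) :=
  isFinLocFree_of_bases fun x => by
    obtain ⟨W, n, m, b, c, hx, -, hb, hc⟩ := exists_bases hM hN x ⊤ trivial
    exact ⟨W, n * m, _, hx, isBasisOn_homMod hb hc⟩

section Pull

variable {Y : Scheme.{u}} (g : X ⟶ Y) {F G : Y.Modules}

theorem pull_zero (P : Y.Modules) (U : Y.Opens) : pull g P U 0 = 0 := map_zero _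

theorem pullHomMap_unitBasis {U : Y.Opens} {bF : Fin n → Γ(F, U)} {cG : Fin m → Γ(G, U)}
    (hb : IsBasisOn F U bF) (a : Fin (n * m)) :
    (pullHomMap g F G).app (g ⁻¹ᵁ U) (pull g _ U (unitBasis hb cG a)) =
      unitBasis (hb.pullback g) (fun j => pull g G U (cG j)) a := by
  classical
  refine (secEquiv _).injective (sec_ext_basis (hb.pullback g) le_rfl fun k => ?_)
  rw [rs_self, ev_pullHomMap g _ le_rfl (bF k), unitBasis, unitBasis, LinearEquiv.apply_symm_apply,
    LinearEquiv.apply_symm_apply]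
  conv_lhs => rw [← rs_self F le_rfl (bF k), ev_unitFam]
  conv_rhs => rw [← rs_self ((Scheme.Modules.pullback g).obj F) le_rfl (pull g F U (bF k)),
    ev_unitFam (hb.pullback g)]
  by_cases hik : k = (finProdFinEquiv.symm a).1
  · subst hik; rw [Pi.single_eq_same, Pi.single_eq_same, rs_self, rs_self]
  · rw [Pi.single_eq_of_ne hik, Pi.single_eq_of_ne hik]; exact pull_zero g G U

/-- Pullback commutes with the sheaf of homomorphisms between finite locally free modules. -/
theorem isIso_pullHomMap (hF : FlatMod.IsFinLocFree F) (hG : FlatMod.IsFinLocFree G) :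
    IsIso (pullHomMap g F G) := by
  refine Groth.L17.BC.Classes.isIso_of_affine _ fun x => ?_
  obtain ⟨U, n, m, bF, cG, hx, -, hb, hc⟩ := exists_bases hF hG (g x) ⊤ trivial
  refine ⟨g ⁻¹ᵁ U, hx, fun V hV _ => ?_⟩
  have h1 := ((isBasisOn_homMod hb hc).pullback g) V hV
  have h2 := (isBasisOn_homMod (hb.pullback g) (hc.pullback g)) V hV
  refine (Function.Bijective.of_comp_iff _ h1).1 ?_
  refine Eq.mp (congrArg Function.Bijective (funext fun r => ?_)) h2
  show _ = (pullHomMap g F G).app V (lc _ _ hV r)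
  rw [app_lc]
  exact congrArg (fun d => lc _ d hV r) (funext fun a => (pullHomMap_unitBasis g hb a).symm)

theorem pull_lc {U V : Y.Opens} {d : Fin n → Γ(F, U)} (h : V ≤ U) (r : Fin n → Γ(Y, V)) :
    pull g F V (lc F d h r) =
      lc _ (fun i => pull g F U (d i)) (g.preimage_mono h) fun i => g.app V (r i) := by
  refine (map_sum (((Scheme.Modules.pullbackPushforwardAdjunction g).unit.app F).app V).hom _ _).trans
    (Finset.sum_congr rfl fun i _ => ?_)
  exact (Groth.L18.Frame.pull_smul g F _ _).trans (congrArg (_ • ·) (Groth.L18.Frame.pull_rs g F h (d i)).symm)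

end Pull

section Matrix

/-- The matrix of a local homomorphism. -/
def matOf {c : Fin m → Γ(N, W)} (b : Fin n → Γ(M, W)) (hc : IsBasisOn N W c) (φ : Sec M N W) :
    Matrix (Fin m) (Fin n) Γ(X, W) := fun j k => coord hc le_rfl (ev φ le_rfl (b k)) j

theorem ev_lc_mat {c : Fin m → Γ(N, W)} (hc : IsBasisOn N W c) (φ : Sec M N W) {V : X.Opens} (h : V ≤ W)
    (r : Fin n → Γ(X, V)) :
    ev φ h (lc M b h r) = lc N c h (((matOf b hc φ).map (ro h)).mulVec r) := by
  rw [ev_lc]
  have e : ∀ k, rs N h (ev φ le_rfl (b k)) = ∑ j, ro h (matOf b hc φ j k) • rs N h (c j) := fun k => by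
    conv_lhs => rw [← lc_coord hc le_rfl (ev φ le_rfl (b k)), rs_lc]
    rfl
  simp only [lc, e, Finset.smul_sum, Matrix.mulVec, dotProduct, Matrix.map_apply, Finset.sum_smul, smul_smul]
  rw [Finset.sum_comm]
  exact Finset.sum_congr rfl fun j _ => Finset.sum_congr rfl fun k _ => by rw [mul_comm]

theorem mulVec_bijective_of_isUnit_det {R : Type*} [CommRing R] {ι : Type*} [Fintype ι] [DecidableEq ι]
    {A : Matrix ι ι R} (h : IsUnit A.det) : Function.Bijective A.mulVec :=
  ⟨Matrix.mulVec_injective_of_isUnit (A.isUnit_iff_isUnit_det.2 h),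
    Matrix.mulVec_surjective_iff_isUnit.2 (A.isUnit_iff_isUnit_det.2 h)⟩

/-- Bijective where the determinant is a unit. -/
theorem bijective_ev_of_det {b : Fin n → Γ(M, W)} (hb : IsBasisOn M W b) {c : Fin n → Γ(N, W)}
    (hc : IsBasisOn N W c) (φ : Sec M N W) {V : X.Opens} (hV : V ≤ X.basicOpen (matOf b hc φ).det)
    (h : V ≤ W) : Function.Bijective (ev φ h) := by
  have hu : IsUnit ((matOf b hc φ).map (ro h)).det := by
    have := (X.toRingedSpace.isUnit_res_basicOpen (matOf b hc φ).det).map (X.presheaf.map (homOfLE hV).op).hom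
    rw [show ((matOf b hc φ).map (ro h)).det = ro h (matOf b hc φ).det from
      (RingHom.map_det (X.presheaf.map (homOfLE h).op).hom (matOf b hc φ)).symm,
      ← ro_ro (X.basicOpen_le (matOf b hc φ).det) hV]
    exact this
  refine (Function.Bijective.of_comp_iff _ (hb V h)).1 ?_
  refine Eq.mp (congrArg Function.Bijective (funext fun r => ?_)) ((hc V h).comp (mulVec_bijective_of_isUnit_det hu))
  exact (ev_lc_mat hc φ h r).symm

end Matrix

end Groth.L16.HomSh
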