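import Groth.Agent.L16.HomSh.Basic
import Groth.Agent.L18.GenLocus
import Groth.Agent.L29.DCoh.PullTensor
import Groth.Agent.L17.BC.PullSec
import Groth.Prelude.Def_DCoh4

/-!
The sheaf of homomorphisms by compatible families is right adjoint to the tensor product, and its
comparison map along a pullback.
-/

set_option autoImplicit false
set_option backward.isDefEq.respectTransparency false
set_option backward.isDefEq.respectTransparency.types false

universe u

open CategoryTheory MonoidalCategory AlgebraicGeometry TopologicalSpace Opposite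
open scoped TensorProduct

noncomputable section

namespace Groth.L16.HomSh

open Groth.L18.Frame (rs ro pull rs_rs ro_ro rs_smul rs_self ro_self)
open Groth.L18.GenLoc (tens tens_rs tens_smul_left tens_smul_right)
open Groth.L00.Tensor (pre preF shf tensorMap)
open Groth.L17.ClosedPush (shAdj)

variable {X Y : Scheme.{u}}

theorem hom_app_rs {P Q : X.Modules} (φ : P ⟶ Q) {U V : X.Opens} (h : V ≤ U) (s : Γ(P, U)) :
    φ.app V (rs P h s) = rs Q h (φ.app U s) := congr($(φ.mapPresheaf.naturality (homOfLE h).op) s)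

/-- Morphisms out of a tensor product agree if they agree on tensors of sections. -/
theorem hom_ext_tens {M P N : X.Modules} {α β : CohB1.tensorMod M P ⟶ N}
    (h : ∀ (W : X.Opens) (m : Γ(M, W)) (p : Γ(P, W)), α.app W (tens M P W m p) = β.app W (tens M P W m p)) :
    α = β := by
  refine ((shAdj X).homEquiv (pre M ⊗ pre P) N).injective ?_
  refine ((shAdj X).homEquiv_unit ..).trans (Eq.trans ?_ ((shAdj X).homEquiv_unit ..).symm)
  exact PresheafOfModules.hom_ext fun V => ModuleCat.MonoidalCategory.tensor_ext fun m p => h V.unop m p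

theorem tensorMap_tens {M M' N N' : X.Modules} (a : M ⟶ M') (b : N ⟶ N') (W : X.Opens) (m : Γ(M, W))
    (n : Γ(N, W)) : (tensorMap a b).app W (tens M N W m n) = tens M' N' W (a.app W m) (b.app W n) :=
  Groth.L17.ClosedPush.tensorMap_unit a b W m n

theorem tens_add_left {M P : X.Modules} {W : X.Opens} (x y : Γ(M, W)) (p : Γ(P, W)) :
    tens M P W (x + y) p = tens M P W x p + tens M P W y p :=
  Groth.L00.Tensor.ev_add₁ (Groth.L00.Tensor.unit (pre M ⊗ pre P)) (op W) x y p

theorem tens_add_right {M P : X.Modules} {W : X.Opens} (x : Γ(M, W)) (p q : Γ(P, W)) :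
    tens M P W x (p + q) = tens M P W x p + tens M P W x q :=
  Groth.L00.Tensor.ev_add₂ (Groth.L00.Tensor.unit (pre M ⊗ pre P)) (op W) x p q

/-- The family of the tensors with a section. -/
def curryFam {M P N : X.Modules} (α : CohB1.tensorMod M P ⟶ N) {U : X.Opens} (p : Γ(P, U)) : Sec M N U :=
  ⟨fun W => AddMonoidHom.mk' (fun x => α.app W.1 (tens M P W.1 x (rs P W.2 p))) fun x y => by
      show α.app W.1 (tens M P W.1 (x + y) (rs P W.2 p)) = _
      rw [tens_add_left, map_add],
    fun W W' h h' x => by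
      show rs N h' (α.app W (tens M P W x (rs P h p))) = α.app W' (tens M P W' (rs M h' x) (rs P (h'.trans h) p))
      rw [← hom_app_rs, tens_rs, rs_rs],
    fun W h a x => by
      show α.app W (tens M P W (a • x) (rs P h p)) = a • α.app W (tens M P W x (rs P h p))
      rw [tens_smul_left]
      exact α.app_smul _ _⟩

theorem ev_curryFam {M P N : X.Modules} (α : CohB1.tensorMod M P ⟶ N) {U : X.Opens} (p : Γ(P, U)) {W : X.Opens}
    (h : W ≤ U) (x : Γ(M, W)) : ev (curryFam α p) h x = α.app W (tens M P W x (rs P h p)) := rfl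

theorem curryFam_add {M P N : X.Modules} (α : CohB1.tensorMod M P ⟶ N) {U : X.Opens} (p q : Γ(P, U)) :
    curryFam α (p + q) = curryFam α p + curryFam α q := sec_ext fun W h x => by
  show ev (curryFam α (p + q)) h x = ev (curryFam α p) h x + ev (curryFam α q) h x
  rw [ev_curryFam, ev_curryFam, ev_curryFam, show rs P h (p + q) = rs P h p + rs P h q from map_add _ _ _,
    tens_add_right, map_add]

theorem curryFam_smul {M P N : X.Modules} (α : CohB1.tensorMod M P ⟶ N) {U : X.Opens} (r : Γ(X, U)) (p : Γ(P, U)) :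
    curryFam α (r • p) = r • curryFam α p := sec_ext fun W h x => by
  rw [ev_smulSec, ev_curryFam, ev_curryFam, rs_smul, tens_smul_right]
  exact α.app_smul _ _

theorem curryFam_res {M P N : X.Modules} (α : CohB1.tensorMod M P ⟶ N) {U V : X.Opens} (i : V ≤ U) (p : Γ(P, U)) :
    curryFam α (rs P i p) = resSec i (curryFam α p) := sec_ext fun W h x => by
  show _ = ev (curryFam α p) (h.trans i) x
  rw [ev_curryFam, ev_curryFam, rs_rs]

/-- Currying. -/
def curryHom {M P N : X.Modules} (α : CohB1.tensorMod M P ⟶ N) : P ⟶ homMod M N :=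
  ⟨PresheafOfModules.homMk
    { app := fun U => AddCommGrpCat.ofHom (AddMonoidHom.mk' (fun p : Γ(P, U.unop) => curryFam α p) (curryFam_add α))
      naturality := fun U V i => by
        ext p
        exact curryFam_res α i.unop.le p }
    (fun U r p => curryFam_smul α _ p)⟩

theorem ev_curryHom {M P N : X.Modules} (α : CohB1.tensorMod M P ⟶ N) (U : X.Opens) (p : Γ(P, U)) {W : X.Opens}
    (h : W ≤ U) (x : Γ(M, W)) :
    ev (secEquiv U ((curryHom α).app U p)) h x = α.app W (tens M P W x (rs P h p)) := rfl

variable (M N : X.Modules)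

/-- Evaluation, on presheaves. -/
def evalPre : pre M ⊗ pre (homMod M N) ⟶ pre N where
  app W := ModuleCat.MonoidalCategory.tensorLift
    (fun (x : Γ(M, W.unop)) (s : Γ(homMod M N, W.unop)) => (ev (secEquiv W.unop s) le_rfl x : Γ(N, W.unop)))
    (fun x y s => map_add _ _ _)
    (fun r x s => ev_smul _ _ _ _)
    (fun x s t => rfl)
    (fun r x s => by
      show ev ((show Γ(X, W.unop) from r) • secEquiv W.unop s) le_rfl x = _
      rw [ev_smulSec, ro_self])
  naturality {W V} i := ModuleCat.MonoidalCategory.tensor_ext fun x s => by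
    show ev (secEquiv V.unop (rs (homMod M N) i.unop.le s)) le_rfl (rs M i.unop.le x) =
      rs N i.unop.le (ev (secEquiv W.unop s) le_rfl x)
    rw [ev_rs]
    rfl

/-- Evaluation. -/
def evalMod : CohB1.tensorMod M (homMod M N) ⟶ N := ((shAdj X).homEquiv _ _).symm (evalPre M N)

variable {M N}

theorem evalMod_tens (W : X.Opens) (x : Γ(M, W)) (s : Γ(homMod M N, W)) :
    (evalMod M N).app W (tens M (homMod M N) W x s) = ev (secEquiv W s) le_rfl x := by
  have h : Groth.L00.Tensor.unit (pre M ⊗ pre (homMod M N)) ≫ (preF X).map (evalMod M N) = evalPre M N := by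
    have h0 := ((shAdj X).homEquiv (pre M ⊗ pre (homMod M N)) N).apply_symm_apply (evalPre M N)
    rw [Adjunction.homEquiv_unit, Groth.L17.ClosedPush.shAdj_unit] at h0
    exact h0
  exact congrArg (fun ψ : pre M ⊗ pre (homMod M N) ⟶ pre N => ψ.app (op W) (x ⊗ₜ[X.sheaf.obj.obj (op W)] s)) h

variable (M)

/-- Morphisms out of a tensor product are morphisms to the sheaf of homomorphisms. -/
def curryEquiv (P N : X.Modules) : (CohB1.tensorMod M P ⟶ N) ≃ (P ⟶ homMod M N) where
  toFun := curryHom
  invFun β := tensorMap (𝟙 M) β ≫ evalMod M N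
  left_inv α := hom_ext_tens fun W m p => by
    show (evalMod M N).app W ((tensorMap (𝟙 M) (curryHom α)).app W (tens M P W m p)) = _
    rw [tensorMap_tens, evalMod_tens]
    show (ev (secEquiv W ((curryHom α).app W p)) le_rfl m) = _
    rw [ev_curryHom, rs_self]
  right_inv β := hom_ext_ev fun U p W h x => by
    rw [ev_curryHom]
    show (evalMod M N).app W ((tensorMap (𝟙 M) β).app W (tens M P W x (rs P h p))) = _
    rw [tensorMap_tens, evalMod_tens, hom_app_rs]
    rfl

/-- The sheaf of homomorphisms as a functor. -/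
def homModF : X.Modules ⥤ X.Modules where
  obj N := homMod M N
  map g := post M g
  map_id N := post_id N
  map_comp g g' := post_comp g g'

/-- It is right adjoint to the tensor product. -/
def tensorHomAdj : Groth.L00.Tensor.tensorLeftF M ⊣ homModF M :=
  Adjunction.mkOfHomEquiv
    { homEquiv := fun P N => curryEquiv M P N
      homEquiv_naturality_left_symm := fun {P P' N} g β => by
        show tensorMap (𝟙 M) (g ≫ β) ≫ evalMod M N = tensorMap (𝟙 M) g ≫ tensorMap (𝟙 M) β ≫ evalMod M N
        rw [← Category.assoc, ← Groth.L00.Tensor.tensorMap_comp, Category.comp_id]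
      homEquiv_naturality_right := fun {P N N'} α g => hom_ext_ev fun U p W h x => rfl }

/-- The chosen sheaf Hom is the sheaf of homomorphisms. -/
def sheafHomIso [DCoh.HasSheafHom M] : DCoh.sheafHom M ≅ homModF M :=
  let i : (DCoh.tensorBi (X := X)).obj M ≅ Groth.L00.Tensor.tensorLeftF M :=
    NatIso.ofComponents (fun N => Iso.refl _) (fun {N N'} g => by
      refine (Category.comp_id _).trans (Eq.trans ?_ (Category.id_comp _).symm)
      refine congrArg (shf X).map ?_
      exact ((congrArg (fun k => MonoidalCategoryStruct.tensorHom k ((preF X).map g))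
        ((preF X).map_id M)).trans (MonoidalCategory.id_tensorHom _ _)).symm)
  ((DCoh.sheafHomAdj M).ofNatIsoLeft i).rightAdjointUniq (tensorHomAdj M)

variable {M}

section Pull

variable (g : X ⟶ Y) (F G : Y.Modules)

theorem δ_pull_tens (A B : Y.Modules) (W : Y.Opens) (a : Γ(A, W)) (b : Γ(B, W)) :
    (Groth.L29.DC.PullTensor.δ g A B).app (g ⁻¹ᵁ W) (pull g _ W (tens A B W a b)) =
      tens _ _ (g ⁻¹ᵁ W) (pull g A W a) (pull g B W b) := by
  refine (congrArg (fun k : CohB1.tensorMod A B ⟶ (Scheme.Modules.pushforward g).obj _ =>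
    k.app W (tens A B W a b)) (Groth.L29.DC.PullTensor.unit_push_δ g A B)).trans ?_
  exact (congrArg ((Groth.L17.ClosedPush.μ g _ _).app W) (tensorMap_tens
    ((Scheme.Modules.pullbackPushforwardAdjunction g).unit.app A)
    ((Scheme.Modules.pullbackPushforwardAdjunction g).unit.app B) W a b)).trans
    (Groth.L17.ClosedPush.μ_unit g _ _ W _ _)

theorem pullTensor_tens (A B : Y.Modules) (W : Y.Opens) (a : Γ(A, W)) (b : Γ(B, W)) :
    (Groth.L29.DC.PullTensor.pullTensor g A B).hom.app (g ⁻¹ᵁ W)
        (tens _ _ (g ⁻¹ᵁ W) (pull g A W a) (pull g B W b)) = pull g _ W (tens A B W a b) := by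
  haveI := Groth.L29.DC.PullTensor.isIso_δ g A B
  rw [← δ_pull_tens]
  exact congr($(congrArg (fun k => Scheme.Modules.Hom.app k (g ⁻¹ᵁ W))
    (IsIso.hom_inv_id (Groth.L29.DC.PullTensor.δ g A B))) _)

/-- Pullback of homomorphisms. -/
def pullHomMap : (Scheme.Modules.pullback g).obj (homMod F G) ⟶
    homMod ((Scheme.Modules.pullback g).obj F) ((Scheme.Modules.pullback g).obj G) :=
  curryHom ((Groth.L29.DC.PullTensor.pullTensor g F (homMod F G)).hom ≫
    (Scheme.Modules.pullback g).map (evalMod F G))

variable {F G}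

theorem ev_pullHomMap {U : Y.Opens} (s : Γ(homMod F G, U)) {W : Y.Opens} (h : W ≤ U) (x : Γ(F, W)) :
    ev (secEquiv (g ⁻¹ᵁ U) ((pullHomMap g F G).app (g ⁻¹ᵁ U) (pull g _ U s))) (g.preimage_mono h) (pull g F W x) =
      pull g G W (ev (secEquiv U s) h x) := by
  rw [pullHomMap, ev_curryHom, Groth.L18.Frame.pull_rs g (homMod F G) h]
  show ((Scheme.Modules.pullback g).map (evalMod F G)).app _
    ((Groth.L29.DC.PullTensor.pullTensor g F (homMod F G)).hom.app _ _) = _
  rw [pullTensor_tens, Groth.L17.BC.PullSec.map_pull, evalMod_tens]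
  rfl

/-- On a pulled back morphism. -/
theorem pullHomMap_globalEquiv (φ : F ⟶ G) :
    (pullHomMap g F G).app (g ⁻¹ᵁ ⊤) (pull g _ ⊤ (globalEquiv F G φ)) =
      globalEquiv _ _ ((Scheme.Modules.pullback g).map φ) := by
  apply (globalEquiv _ _).symm.injective
  rw [AddEquiv.symm_apply_apply]
  refine ((Scheme.Modules.pullbackPushforwardAdjunction g).homEquiv _ _).injective ?_
  rw [Adjunction.homEquiv_unit, Adjunction.homEquiv_unit]
  refine Scheme.Modules.hom_ext _ _ fun W => ?_
  ext x
  show ev (secEquiv (g ⁻¹ᵁ ⊤) ((pullHomMap g F G).app (g ⁻¹ᵁ ⊤) (pull g _ ⊤ (globalEquiv F G φ))))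
      (g.preimage_mono le_top) (pull g F W x) = ((Scheme.Modules.pullback g).map φ).app (g ⁻¹ᵁ W) (pull g F W x)
  rw [ev_pullHomMap g (globalEquiv F G φ) le_top x, Groth.L17.BC.PullSec.map_pull]
  rfl

end Pull

end Groth.L16.HomSh
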