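import Groth.Agent.L16.HomSh.LocFreeModPow
import Groth.Agent.L16.NegPow.Gen
import Groth.Agent.L29.DCoh.Amplitude
import Groth.Agent.L18.GenLocus

/-!
Completion on sections of finite locally free modules of a quasi-affine scheme is detected by the structure sheaf.
-/

set_option autoImplicit false
set_option linter.style.haveILetI false
set_option backward.isDefEq.respectTransparency false
set_option backward.isDefEq.respectTransparency.types false

universe u

open CategoryTheory CategoryTheory.Limits AlgebraicGeometry TopologicalSpace Opposite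

noncomputable section

namespace Groth.L16.HomSh

open Groth.L18.Frame (rs ro rs_rs ro_ro rs_smul rs_self ro_self)
open Groth.L19.ProjBdl (IsBasisOn lc coord lc_coord coord_eq)
open Formal (smulMod modPow modPowπ modPowTrans modPowπ_trans smulFamily)

section Bidual

variable {X : Scheme.{u}}

/-- Evaluation at a section of a module, as a family on the module of homomorphisms. -/
def evFam {E N : X.Modules} {U : X.Opens} (p : Γ(E, U)) : Sec (homMod E N) N U :=
  ⟨fun W => AddMonoidHom.mk' (fun s => ev (secEquiv W.1 s) le_rfl (rs E W.2 p)) fun _ _ => rfl,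
    fun W W' h h' s => by
      show rs N h' (ev (secEquiv W s) le_rfl (rs E h p)) =
        ev (secEquiv W' (rs (homMod E N) h' s)) le_rfl (rs E (h'.trans h) p)
      rw [ev_rs, secEquiv_rs, rs_rs],
    fun W h a s => by
      show ev (secEquiv W (a • s)) le_rfl (rs E h p) = a • ev (secEquiv W s) le_rfl (rs E h p)
      rw [map_smul, ev_smulSec, ro_self]⟩

theorem ev_evFam {E N : X.Modules} {U : X.Opens} (p : Γ(E, U)) {W : X.Opens} (h : W ≤ U)
    (s : Γ(homMod E N, W)) : ev (evFam p) h s = ev (secEquiv W s) le_rfl (rs E h p) := rfl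

theorem evFam_add {E N : X.Modules} {U : X.Opens} (p q : Γ(E, U)) :
    (evFam (p + q) : Sec (homMod E N) N U) = evFam p + evFam q := sec_ext fun W h s => by
  show ev (secEquiv W s) le_rfl (rs E h (p + q)) =
    ev (secEquiv W s) le_rfl (rs E h p) + ev (secEquiv W s) le_rfl (rs E h q)
  rw [show rs E h (p + q) = rs E h p + rs E h q from map_add _ _ _, map_add]

theorem evFam_smul {E N : X.Modules} {U : X.Opens} (r : Γ(X, U)) (p : Γ(E, U)) :
    (evFam (r • p) : Sec (homMod E N) N U) = r • evFam p := sec_ext fun W h s => by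
  rw [ev_smulSec, ev_evFam, ev_evFam, rs_smul, ev_smul]

theorem evFam_res {E N : X.Modules} {U V : X.Opens} (i : V ≤ U) (p : Γ(E, U)) :
    (evFam (rs E i p) : Sec (homMod E N) N V) = resSec i (evFam p) := sec_ext fun W h s => by
  show _ = ev (evFam p) (h.trans i) s
  rw [ev_evFam, ev_evFam, rs_rs]

/-- The map to the double dual. -/
def evalMap (E N : X.Modules) : E ⟶ homMod (homMod E N) N :=
  ⟨PresheafOfModules.homMk
    { app := fun U => AddCommGrpCat.ofHom
        (AddMonoidHom.mk' (fun p : Γ(E, U.unop) => (evFam p : Sec (homMod E N) N _)) evFam_add)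
      naturality := fun U V i => by
        ext p
        exact evFam_res i.unop.le p }
    (fun U r p => evFam_smul _ p)⟩

theorem ev_evalMap {E N : X.Modules} (U : X.Opens) (p : Γ(E, U)) {W : X.Opens} (h : W ≤ U)
    (s : Γ(homMod E N, W)) :
    ev (secEquiv U ((evalMap E N).app U p)) h s = ev (secEquiv W s) le_rfl (rs E h p) := rfl

theorem isIso_evalMap {E : X.Modules} (hE : FlatMod.IsFinLocFree E) :
    IsIso (evalMap E (Coh.structureModule X)) := by
  classical
  refine Groth.L17.BC.Classes.isIso_of_affine _ fun y => ?_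
  obtain ⟨V₀, n, b₀, -, hy, -, hb₀⟩ := Groth.L19.ProjBdl.exists_basisOn hE y ⊤ trivial
  refine ⟨V₀, hy, fun V hV _ => ?_⟩
  let b := fun i => rs E hV (b₀ i)
  have hb : IsBasisOn E V b := hb₀.mono hV
  let e : Fin n → Γ(homMod E (Coh.structureModule X), V) := fun k => θ hb k le_rfl (1 : Γ(X, V))
  have hev : ∀ (r : Fin n → Γ(X, V)) (k : Fin n),
      ev (secEquiv V ((evalMap E (Coh.structureModule X)).app V (lc E b le_rfl r))) le_rfl (e k) = r k := fun r k => by
    rw [ev_evalMap, rs_self, ev_lc]
    refine (Finset.sum_eq_single k (fun j _ hjk => ?_) (fun h => absurd (Finset.mem_univ k) h)).trans ?_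
    · rw [rs_self]
      show r j • ev (secEquiv V (θ (N := Coh.structureModule X) hb k le_rfl (1 : Γ(X, V)))) le_rfl (b j) = 0
      conv_lhs => rw [← rs_self E le_rfl (b j)]
      rw [ev_θ hb k le_rfl _ le_rfl j, Pi.single_eq_of_ne hjk, smul_zero]
    · rw [rs_self]
      show r k • ev (secEquiv V (θ (N := Coh.structureModule X) hb k le_rfl (1 : Γ(X, V)))) le_rfl (b k) = r k
      conv_lhs => rw [← rs_self E le_rfl (b k)]
      rw [ev_θ hb k le_rfl _ le_rfl k, Pi.single_eq_same, rs_self]
      exact mul_one (r k)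
  refine ⟨fun p q hpq => ?_, fun s => ⟨lc E b le_rfl fun k => ev (secEquiv V s) le_rfl (e k), ?_⟩⟩
  · rw [← lc_coord hb le_rfl p, ← lc_coord hb le_rfl q] at hpq ⊢
    refine congrArg _ (funext fun k => ?_)
    rw [← hev (coord hb le_rfl p) k, ← hev (coord hb le_rfl q) k, hpq]
  · refine (secEquiv V).injective (sec_ext fun W h t => ?_)
    rw [eq_sum_θ hb h t, map_sum, map_sum]
    refine Finset.sum_congr rfl fun k _ => ?_
    rw [show θ hb k h (ev (secEquiv W t) le_rfl (rs E h (b k))) =
      (show Γ(X, W) from ev (secEquiv W t) le_rfl (rs E h (b k))) • rs (homMod E (Coh.structureModule X)) h (e k) from by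
        rw [θ_rs, ← θ_smul]
        refine congrArg _ ?_
        show _ = (show Γ(X, W) from ev (secEquiv W t) le_rfl (rs E h (b k))) * ro h (1 : Γ(X, V))
        rw [show ro h (1 : Γ(X, V)) = 1 from map_one _, mul_one], ev_smul, ev_smul, ← ev_rs _ le_rfl h,
      ← ev_rs _ le_rfl h, hev]

end Bidual

variable {A : Type u} [CommRing A] {X : Scheme.{u}} [X.Over (Spec (CommRingCat.of A))] [IsNoetherian X]
  (I : Ideal A)

theorem secOf_comp {P Q : X.Modules} (a : Coh.structureModule X ⟶ P) (g : P ⟶ Q) :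
    Groth.L18.GenLoc.secOf (a ≫ g) = g.app ⊤ (Groth.L18.GenLoc.secOf a) := rfl

theorem secOf_injective {P : X.Modules} {a a' : Coh.structureModule X ⟶ P}
    (h : Groth.L18.GenLoc.secOf a = Groth.L18.GenLoc.secOf a') : a = a' := by
  rw [← Groth.L18.GenLoc.homOfSection_secOf a, ← Groth.L18.GenLoc.homOfSection_secOf a', h]

/-- Completion is fully faithful from the structure sheaf to itself. -/
theorem existsUnique_endO (h : Function.Bijective (Formal.toHHlim I (Coh.structureModule X) 0))
    (a : ∀ n, Coh.structureModule X ⟶ modPow I (n + 1) (Coh.structureModule X))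
    (ha : ∀ n, a (n + 1) ≫ modPowTrans I (n + 1) (Coh.structureModule X) = a n) :
    ∃! φ : Coh.structureModule X ⟶ Coh.structureModule X,
      ∀ n, φ ≫ modPowπ I (n + 1) (Coh.structureModule X) = a n := by
  let z : ∀ n, Formal.HHmodPow I (Coh.structureModule X) 0 n :=
    fun n => (h0Equiv _).symm (Groth.L18.GenLoc.secOf (a n))
  have hz : z ∈ Formal.HHlim I (Coh.structureModule X) 0 := fun n => (h0Equiv _).injective (by
    show h0Equiv _ (CategoryTheory.Sheaf.H.map _ 0 _) = _
    rw [h0Equiv_map, AddEquiv.apply_symm_apply, AddEquiv.apply_symm_apply, ← secOf_comp, ha])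
  have key : ∀ (φ : Coh.structureModule X ⟶ Coh.structureModule X),
      (∀ n, φ ≫ modPowπ I (n + 1) (Coh.structureModule X) = a n) ↔
        Formal.toHHlim I (Coh.structureModule X) 0 ((h0Equiv _).symm (Groth.L18.GenLoc.secOf φ)) = ⟨z, hz⟩ := by
    intro φ
    have e : ∀ n, h0Equiv _ (Formal.toHHmodPow I (Coh.structureModule X) 0 n
        ((h0Equiv _).symm (Groth.L18.GenLoc.secOf φ))) =
          Groth.L18.GenLoc.secOf (φ ≫ modPowπ I (n + 1) (Coh.structureModule X)) := fun n =>
      (h0Equiv_map _ _).trans (congrArg _ (AddEquiv.apply_symm_apply _ _))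
    refine ⟨fun hφ => Subtype.ext (funext fun n => (h0Equiv _).injective ?_), fun hφ n => secOf_injective ?_⟩
    · exact (e n).trans ((congrArg _ (hφ n)).trans (AddEquiv.apply_symm_apply _ _).symm)
    · refine ((e n).symm.trans ?_)
      exact (congrArg _ (congrFun (congrArg Subtype.val hφ) n)).trans (AddEquiv.apply_symm_apply _ _)
  obtain ⟨y, hy⟩ := h.2 ⟨z, hz⟩
  refine ⟨Groth.L16.homOfSection _ (h0Equiv _ y), (key _).2 ?_, fun φ' hφ' => ?_⟩
  · rw [Groth.L18.GenLoc.secOf_homOfSection, AddEquiv.symm_apply_apply]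
    exact hy
  · have e := h.1 (((key φ').1 hφ').trans hy.symm)
    refine secOf_injective ?_
    rw [Groth.L18.GenLoc.secOf_homOfSection, ← e, AddEquiv.apply_symm_apply]

variable [X.IsQuasiAffine]

/-- A finite locally free module of a quasi-affine scheme has a presentation by free modules. -/
theorem exists_presentation {M : X.Modules} (hM : FlatMod.IsFinLocFree M) :
    ∃ (k l : ℕ) (p : FlatMod.freeMod X k ⟶ M) (_ : Epi p) (q : FlatMod.freeMod X l ⟶ kernel p), Epi q := by
  have key : ∀ {Q : X.Modules}, FlatMod.IsFinLocFree Q → ∃ (k : ℕ) (p : FlatMod.freeMod X k ⟶ Q), Epi p :=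
    fun {Q} hQ => by
      have hc := Groth.L16.NegPow.isCoh_of_isFinLocFree hQ
      haveI : Coh.IsQCoh Q := hc.1
      obtain ⟨ι, p, hp⟩ := Groth.L18.Ample.isGloballyGenerated_of_isQuasiAffine Q
      exact Groth.L16.NegPow.exists_finite_epi hc p
  obtain ⟨k, p, hp⟩ := key hM
  have hfree : FlatMod.IsFinLocFree (FlatMod.freeMod X k) :=
    fun x => ⟨⊤, k, trivial, ⟨Groth.L16.NegPow.freeRestrictIso _ _⟩⟩
  haveI := hp
  obtain ⟨l, q, hq⟩ := key (Groth.L29.DC.isFinLocFree_kernel_of_epi p hfree hM)
  exact ⟨k, l, p, hp, q, hq⟩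

/-- Completion is fully faithful into the structure sheaf. -/
theorem existsUnique_toO {M : X.Modules} (hM : FlatMod.IsFinLocFree M)
    (h : Function.Bijective (Formal.toHHlim I (Coh.structureModule X) 0))
    (ψ : ∀ n, M ⟶ modPow I (n + 1) (Coh.structureModule X))
    (hψ : ∀ n, ψ (n + 1) ≫ modPowTrans I (n + 1) (Coh.structureModule X) = ψ n) :
    ∃! φ : M ⟶ Coh.structureModule X, ∀ n, φ ≫ modPowπ I (n + 1) (Coh.structureModule X) = ψ n := by
  obtain ⟨k, l, p, hp, q, hq⟩ := exists_presentation hM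
  haveI := hp
  haveI := hq
  let ι : ∀ {r : ℕ}, Fin r → (Coh.structureModule X ⟶ FlatMod.freeMod X r) := fun {r} j =>
    Sigma.ι (fun _ : Fin r => Coh.structureModule X) j
  choose φj hφj hφu using fun j : Fin k => existsUnique_endO I h (fun n => ι j ≫ p ≫ ψ n) fun n => by
    simp only [Category.assoc, hψ n]
  let Φ : FlatMod.freeMod X k ⟶ Coh.structureModule X := Sigma.desc φj
  have hΦ : ∀ n, Φ ≫ modPowπ I (n + 1) (Coh.structureModule X) = p ≫ ψ n := fun n => by
    refine Sigma.hom_ext _ _ fun j => ?_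
    rw [← Category.assoc, Sigma.ι_desc]
    exact hφj j n
  have hK : kernel.ι p ≫ Φ = 0 := by
    rw [← cancel_epi q, comp_zero]
    refine Sigma.hom_ext _ _ fun j => ?_
    rw [comp_zero]
    refine (existsUnique_endO I h (fun n => 0) fun n => zero_comp).unique (fun n => ?_) fun n => zero_comp
    rw [Category.assoc, Category.assoc, Category.assoc, hΦ, kernel.condition_assoc, zero_comp, comp_zero,
      comp_zero]
  refine ⟨Abelian.epiDesc p Φ hK, fun n => ?_, fun φ' hφ' => ?_⟩
  · rw [← cancel_epi p, ← Category.assoc, Abelian.comp_epiDesc, hΦ]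
  · rw [← cancel_epi p, Abelian.comp_epiDesc]
    refine Sigma.hom_ext _ _ fun j => (hφu j (ι j ≫ p ≫ φ') fun n => ?_).trans (Sigma.ι_desc _ _).symm
    rw [Category.assoc, Category.assoc, hφ']

theorem bijective_toHHlim_homMod {M : X.Modules} (hM : FlatMod.IsFinLocFree M)
    (h : Function.Bijective (Formal.toHHlim I (Coh.structureModule X) 0)) :
    Function.Bijective (Formal.toHHlim I (homMod M (Coh.structureModule X)) 0) := by
  let O := Coh.structureModule X
  have hc := fun m => isIso_comparison (M := M) I hM m O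
  have e : ∀ (φ : M ⟶ O) (n : ℕ), (comparison I (n + 1) O).app ⊤
      ((modPowπ I (n + 1) (homMod M O)).app ⊤ (globalEquiv M O φ)) = globalEquiv M _ (φ ≫ modPowπ I (n + 1) O) := by
    intro φ n
    rw [globalEquiv_comp, ← π_comparison I (n + 1) O]
    rfl
  have hto : ∀ (y : Coh.HH X (homMod M O) 0) (n : ℕ), h0Equiv _ (Formal.toHHmodPow I (homMod M O) 0 n y) =
      (modPowπ I (n + 1) (homMod M O)).app ⊤ (h0Equiv _ y) := fun y n => h0Equiv_map _ _
  have htrans : ∀ m, modPowTrans I m (homMod M O) ≫ comparison I m O =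
      comparison I (m + 1) O ≫ post M (modPowTrans I m O) := fun m => by
    haveI : Epi (modPowπ I (m + 1) (homMod M O)) := inferInstanceAs (Epi (cokernel.π _))
    rw [← cancel_epi (modPowπ I (m + 1) (homMod M O)), ← Category.assoc, modPowπ_trans, π_comparison,
      ← Category.assoc, π_comparison, ← post_comp, modPowπ_trans]
  have hinj : ∀ m, Function.Injective ((comparison (M := M) I m O).app ⊤) := fun m a b hab => by
    haveI := hc m
    exact ((ConcreteCategory.isIso_iff_bijective _).1
      (Scheme.Modules.Hom.isIso_iff_isIso_app.1 inferInstance ⊤)).1 hab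
  refine ⟨(injective_iff_map_eq_zero _).2 fun y hy => ?_, fun z => ?_⟩
  · let φ := (globalEquiv M O).symm (h0Equiv _ y)
    have hφ : ∀ n, φ ≫ modPowπ I (n + 1) O = 0 := fun n => (globalEquiv M _).injective (by
      rw [← e φ n, map_zero, AddEquiv.apply_symm_apply, ← hto,
        show Formal.toHHmodPow I (homMod M O) 0 n y = 0 from congrFun (congrArg Subtype.val hy) n, map_zero,
        map_zero])
    have h0 : φ = 0 := (existsUnique_toO I hM h (fun _ => 0) fun _ => zero_comp).unique hφ fun _ => zero_comp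
    rw [← (h0Equiv _).map_eq_zero_iff, ← (globalEquiv M O).symm.map_eq_zero_iff]
    exact h0
  · let g : ∀ n, M ⟶ modPow I (n + 1) O := fun n =>
      (globalEquiv M _).symm ((comparison I (n + 1) O).app ⊤ (h0Equiv _ (z.1 n)))
    have hg : ∀ n, g (n + 1) ≫ modPowTrans I (n + 1) O = g n := fun n => (globalEquiv M _).injective (by
      rw [globalEquiv_comp, AddEquiv.apply_symm_apply, AddEquiv.apply_symm_apply,
        ← show h0Equiv _ (Formal.HHmodPowTrans I (homMod M O) 0 n (z.1 (n + 1))) = h0Equiv _ (z.1 n) from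
          congrArg _ (z.2 n), show h0Equiv _ (Formal.HHmodPowTrans I (homMod M O) 0 n (z.1 (n + 1))) =
          (modPowTrans I (n + 1) (homMod M O)).app ⊤ (h0Equiv _ (z.1 (n + 1))) from h0Equiv_map _ _]
      exact (ConcreteCategory.congr_hom (congrArg (fun t => Scheme.Modules.Hom.app t ⊤) (htrans (n + 1))) _).symm)
    obtain ⟨φ, hφ, -⟩ := existsUnique_toO I hM h g hg
    refine ⟨(h0Equiv _).symm (globalEquiv M O φ), Subtype.ext (funext fun n => (h0Equiv _).injective
      (hinj (n + 1) ?_))⟩
    refine (congrArg _ ((hto _ n).trans (congrArg _ (AddEquiv.apply_symm_apply _ _)))).trans ?_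
    rw [e, hφ]
    exact AddEquiv.apply_symm_apply _ _

/-- Reduction of a map. -/
def mapPow {P Q : X.Modules} (g : P ⟶ Q) (m : ℕ) : modPow I m P ⟶ modPow I m Q :=
  cokernel.desc _ (g ≫ modPowπ I m Q) (by
    apply Sigma.hom_ext
    intro a
    rw [comp_zero, smulFamily, Sigma.ι_desc_assoc, ← Category.assoc, Rees.smulMod_naturality,
      Category.assoc, Rees.smulMod_modPowπ I Q a.2, comp_zero])

theorem π_mapPow {P Q : X.Modules} (g : P ⟶ Q) (m : ℕ) : modPowπ I m P ≫ mapPow I g m = g ≫ modPowπ I m Q :=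
  cokernel.π_desc _ _ _

theorem mapPow_trans {P Q : X.Modules} (g : P ⟶ Q) (m : ℕ) :
    mapPow I g (m + 1) ≫ modPowTrans I m Q = modPowTrans I m P ≫ mapPow I g m := by
  haveI : Epi (modPowπ I (m + 1) P) := inferInstanceAs (Epi (cokernel.π _))
  rw [← cancel_epi (modPowπ I (m + 1) P), ← Category.assoc, π_mapPow, Category.assoc, modPowπ_trans,
    ← Category.assoc, modPowπ_trans, π_mapPow]

theorem mapPow_comp {P Q R : X.Modules} (g : P ⟶ Q) (g' : Q ⟶ R) (m : ℕ) :
    mapPow I g m ≫ mapPow I g' m = mapPow I (g ≫ g') m := by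
  haveI : Epi (modPowπ I m P) := inferInstanceAs (Epi (cokernel.π _))
  rw [← cancel_epi (modPowπ I m P), ← Category.assoc, π_mapPow, Category.assoc, π_mapPow, π_mapPow, Category.assoc]

theorem mapPow_id (P : X.Modules) (m : ℕ) : mapPow I (𝟙 P) m = 𝟙 (modPow I m P) := by
  haveI : Epi (modPowπ I m P) := inferInstanceAs (Epi (cokernel.π _))
  rw [← cancel_epi (modPowπ I m P), π_mapPow, Category.id_comp, Category.comp_id]

/-- Bijectivity is invariant under isomorphisms. -/
theorem bijective_toHHlim_of_iso {P Q : X.Modules} (i : P ≅ Q)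
    (hQ : Function.Bijective (Formal.toHHlim I Q 0)) : Function.Bijective (Formal.toHHlim I P 0) := by
  let f := fun {P Q : X.Modules} (g : P ⟶ Q) => CategoryTheory.Sheaf.H.map ((SheafOfModules.toSheaf _).map g) 0
  have hinv : ∀ x, f i.inv (f i.hom x) = x := fun x => by
    refine (Formal.HHmap_comp i.hom i.inv 0 x).trans ?_
    rw [i.hom_inv_id]
    exact (h0Equiv _).injective ((h0Equiv_map _ _).trans rfl)
  have hinv' : ∀ x, f i.hom (f i.inv x) = x := fun x => by
    refine (Formal.HHmap_comp i.inv i.hom 0 x).trans ?_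
    rw [i.inv_hom_id]
    exact (h0Equiv _).injective ((h0Equiv_map _ _).trans rfl)
  let mp := fun {P Q : X.Modules} (g : P ⟶ Q) (n : ℕ) => mapPow I g (n + 1)
  have hnat : ∀ {P Q : X.Modules} (g : P ⟶ Q) (x : Coh.HH X P 0) (n : ℕ),
      Formal.toHHmodPow I Q 0 n (f g x) = f (mp g n) (Formal.toHHmodPow I P 0 n x) := fun {P Q} g x n => by
    refine (Formal.HHmap_comp g _ 0 x).trans (Eq.trans ?_ (Formal.HHmap_comp _ (mp g n) 0 x).symm)
    exact congrArg (fun t => CategoryTheory.Sheaf.H.map ((SheafOfModules.toSheaf _).map t) 0 x)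
      (π_mapPow I g (n + 1)).symm
  refine ⟨fun a b hab => ?_, fun z => ?_⟩
  · rw [← hinv a, ← hinv b]
    refine congrArg _ (hQ.1 (Subtype.ext (funext fun n => ?_)))
    exact (hnat i.hom a n).trans ((congrArg _ (congrFun (congrArg Subtype.val hab) n)).trans (hnat i.hom b n).symm)
  · have hw : (fun n => f (mp i.hom n) (z.1 n)) ∈ Formal.HHlim I Q 0 := fun n => by
      refine (Formal.HHmap_comp (mp i.hom (n + 1)) (modPowTrans I (n + 1) Q) 0 _).trans ?_
      refine Eq.trans ?_ (congrArg (f (mp i.hom n)) (z.2 n))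
      refine Eq.trans ?_ (Formal.HHmap_comp (modPowTrans I (n + 1) P) (mp i.hom n) 0 _).symm
      exact congrArg (fun t => CategoryTheory.Sheaf.H.map ((SheafOfModules.toSheaf _).map t) 0 (z.1 (n + 1)))
        (mapPow_trans I i.hom (n + 1))
    obtain ⟨y, hy⟩ := hQ.2 ⟨_, hw⟩
    refine ⟨f i.inv y, Subtype.ext (funext fun n => ?_)⟩
    refine (hnat i.inv y n).trans ?_
    rw [show Formal.toHHmodPow I Q 0 n y = _ from congrFun (congrArg Subtype.val hy) n]
    refine (Formal.HHmap_comp (mp i.hom n) (mp i.inv n) 0 (z.1 n)).trans ?_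
    show CategoryTheory.Sheaf.H.map ((SheafOfModules.toSheaf _).map
      (mapPow I i.hom (n + 1) ≫ mapPow I i.inv (n + 1))) 0 (z.1 n) = _
    rw [mapPow_comp, i.hom_inv_id, mapPow_id]
    exact (h0Equiv _).injective ((h0Equiv_map _ _).trans rfl)

theorem isFinLocFree_unit (X : Scheme.{u}) : FlatMod.IsFinLocFree (Coh.structureModule X) :=
  isFinLocFree_of_bases fun x => ⟨⊤, 1, fun _ => (1 : Γ(X, ⊤)), trivial, fun V h => by
    refine ⟨fun r r' e => funext fun a => ?_, fun s => ⟨fun _ => s, ?_⟩⟩
    · have h1 : rs (Coh.structureModule X) h (1 : Γ(X, ⊤)) = (1 : Γ(X, V)) := map_one (X.presheaf.map _).hom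
      rw [Subsingleton.elim a 0]
      simpa [lc, h1] using e
    · have h1 : rs (Coh.structureModule X) h (1 : Γ(X, ⊤)) = (1 : Γ(X, V)) := map_one (X.presheaf.map _).hom
      simp [lc, h1]⟩

/-- Completion is bijective on sections of every finite locally free module. -/
theorem bijective_toHHlim_of_isFinLocFree {E : X.Modules} (hE : FlatMod.IsFinLocFree E)
    (h : Function.Bijective (Formal.toHHlim I (Coh.structureModule X) 0)) :
    Function.Bijective (Formal.toHHlim I E 0) := by
  haveI := isIso_evalMap hE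
  exact bijective_toHHlim_of_iso I (asIso (evalMap E (Coh.structureModule X)))
    (bijective_toHHlim_homMod I (isFinLocFree_homMod hE (isFinLocFree_unit X)) h)

end Groth.L16.HomSh
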