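import Groth.Agent.L16.HomSh.FullyFaithful
import Groth.Agent.L16.HomSh.FreeFrames
import Groth.Agent.L00.StalkFunctor
import Groth.Agent.L17.SerreCriterion

/-!
Homomorphisms out of a finite locally free module commute with reduction modulo an ideal power.
-/

set_option autoImplicit false
set_option linter.style.haveILetI false
set_option backward.isDefEq.respectTransparency false
set_option backward.isDefEq.respectTransparency.types false

universe u

open CategoryTheory CategoryTheory.Limits AlgebraicGeometry TopologicalSpace Opposite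

noncomputable section

namespace Groth.L16.HomSh

open Groth.L18.Frame (rs ro rs_rs ro_ro rs_smul rs_self ro_self)
open Groth.L19.ProjBdl (IsBasisOn lc coord lc_coord coord_eq coord_rs rs_lc app_lc rs_sum)
open Formal (smulMod modPow modPowπ modPowTrans modPowπ_trans smulFamily)

variable {A : Type u} [CommRing A] {X : Scheme.{u}} [X.Over (Spec (CommRingCat.of A))] (I : Ideal A)

/-- Sections lift locally along the projection to a reduction. -/
theorem exists_local_lift {M N : X.Modules} (p : M ⟶ N) [Epi p] {V : X.Opens} (q : Γ(N, V)) {x : X} (hx : x ∈ V) :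
    ∃ (W : X.Opens) (h : W ≤ V) (t : Γ(M, W)), x ∈ W ∧ p.app W t = rs N h q := by
  obtain ⟨t', ht'⟩ := (Groth.L21.Mod.epi_iff_stalk_surjective p).1 inferInstance x (N.presheaf.germ V x hx q)
  obtain ⟨V', hxV', t, rfl⟩ := TopCat.Presheaf.exists_germ_eq _ t'
  have hg : N.presheaf.germ V' x hxV' (p.app V' t) = N.presheaf.germ V x hx q :=
    (Groth.L21.Mod.stalkF_map_germ p V' x hxV' t).symm.trans ht'
  obtain ⟨W, hxW, i₁, i₂, hW⟩ := N.presheaf.germ_eq x hxV' hx _ _ hg
  exact ⟨W, i₂.le, rs M i₁.le t, hxW, (app_rs p i₁.le t).trans hW⟩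

section Basis

variable {M N : X.Modules} {V : X.Opens} {n : ℕ} {b : Fin n → Γ(M, V)} (hb : IsBasisOn M V b)

/-- The homomorphism with one given value on a basis and the others zero. -/
def θ (i : Fin n) {W : X.Opens} (hW : W ≤ V) (y : Γ(N, W)) : Γ(homMod M N, W) :=
  (secEquiv W).symm (unitFam (hb.mono hW) i y)

theorem ev_θ (i : Fin n) {W : X.Opens} (hW : W ≤ V) (y : Γ(N, W)) {W' : X.Opens} (h : W' ≤ W) (k : Fin n) :
    ev (secEquiv W (θ hb i hW y)) h (rs M (h.trans hW) (b k)) = (Pi.single i (rs N h y) : Fin n → Γ(N, W')) k := by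
  rw [θ, LinearEquiv.apply_symm_apply, ← rs_rs M hW h (b k)]
  exact ev_unitFam (hb.mono hW) i y h k

include hb in
theorem sec_ext' {N : X.Modules} {W : X.Opens} (hW : W ≤ V) {s t : Γ(homMod M N, W)}
    (h : ∀ k, ev (secEquiv W s) le_rfl (rs M hW (b k)) = ev (secEquiv W t) le_rfl (rs M hW (b k))) : s = t :=
  (secEquiv W).injective (sec_ext_basis hb hW h)

theorem θ_rs (i : Fin n) {W W' : X.Opens} (hW : W ≤ V) (h : W' ≤ W) (y : Γ(N, W)) :
    rs (homMod M N) h (θ hb i hW y) = θ hb i (h.trans hW) (rs N h y) := by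
  refine sec_ext' hb (h.trans hW) fun k => ?_
  rw [secEquiv_rs, ev_θ hb i hW y h k, ev_θ hb i (h.trans hW) _ le_rfl k, rs_self]

theorem θ_add (i : Fin n) {W : X.Opens} (hW : W ≤ V) (y y' : Γ(N, W)) :
    θ hb i hW (y + y') = θ hb i hW y + θ hb i hW y' := by
  refine sec_ext' hb hW fun k => ?_
  rw [map_add]
  show _ = ev (secEquiv W (θ hb i hW y)) le_rfl _ + ev (secEquiv W (θ hb i hW y')) le_rfl _
  rw [ev_θ, ev_θ, ev_θ, rs_self, rs_self, rs_self, Pi.single_add, Pi.add_apply]

theorem θ_smul (i : Fin n) {W : X.Opens} (hW : W ≤ V) (r : Γ(X, W)) (y : Γ(N, W)) :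
    θ hb i hW (r • y) = r • θ hb i hW y := by
  refine sec_ext' hb hW fun k => ?_
  rw [map_smul, ev_smulSec, ev_θ, ev_θ, rs_self, rs_self, ro_self, Pi.single_smul, Pi.smul_apply]

theorem eq_sum_θ {W : X.Opens} (hW : W ≤ V) (s : Γ(homMod M N, W)) :
    s = ∑ i, θ hb i hW (ev (secEquiv W s) le_rfl (rs M hW (b i))) := by
  classical
  refine sec_ext' hb hW fun k => ?_
  let E : Γ(homMod M N, W) →+ Γ(N, W) := AddMonoidHom.mk' (fun t => ev (secEquiv W t) le_rfl (rs M hW (b k)))
    fun _ _ => rfl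
  refine Eq.symm ((map_sum E _ _).trans ?_)
  rw [Finset.sum_eq_single k]
  · show ev (secEquiv W (θ hb k hW _)) le_rfl _ = _
    rw [ev_θ, Pi.single_eq_same, rs_self]
  · intro i _ hik
    show ev (secEquiv W (θ hb i hW _)) le_rfl _ = _
    rw [ev_θ, Pi.single_eq_of_ne hik.symm]
  · exact fun h => absurd (Finset.mem_univ k) h

end Basis

variable {M : X.Modules}

theorem smul_post_eq_zero (m : ℕ) (N : X.Modules) :
    smulFamily (I ^ m) (homMod M N) ≫ post M (modPowπ I m N) = 0 := by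
  apply Sigma.hom_ext
  intro a
  rw [comp_zero, smulFamily, Sigma.ι_desc_assoc, ← post_smulMod, ← post_comp, Rees.smulMod_modPowπ I N a.2,
    post_zero]

/-- The comparison map. -/
def comparison (m : ℕ) (N : X.Modules) : modPow I m (homMod M N) ⟶ homMod M (modPow I m N) :=
  cokernel.desc _ (post M (modPowπ I m N)) (smul_post_eq_zero I m N)

theorem π_comparison (m : ℕ) (N : X.Modules) :
    modPowπ I m (homMod M N) ≫ comparison I m N = post M (modPowπ I m N) := cokernel.π_desc _ _ _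

/-- Elementary homomorphisms with values vanishing modulo the ideal vanish modulo the ideal. -/
theorem θ_mem (m : ℕ) {N : X.Modules} {V : X.Opens} {n : ℕ} {b : Fin n → Γ(M, V)} (hb : IsBasisOn M V b)
    (i : Fin n) {W : X.Opens} (hW : W ≤ V) (y : Γ(N, W)) (hy : (modPowπ I m N).app W y = 0) {x : X} (hx : x ∈ W) :
    ∃ (W' : X.Opens) (h : W' ≤ W), x ∈ W' ∧
      (modPowπ I m (homMod M N)).app W' (θ hb i (h.trans hW) (rs N h y)) = 0 := by
  classical
  let F := Groth.L00.Stk.F X x
  haveI : F.Additive := Functor.additive_of_preserves_binary_products F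
  haveI : Epi (modPowπ I m N) := inferInstanceAs (Epi (cokernel.π _))
  let S := ShortComplex.mk (smulFamily (I ^ m) N) (modPowπ I m N) (cokernel.condition _)
  have hS : S.Exact := S.exact_of_g_is_cokernel (cokernelIsCokernel _)
  have hex := (hS.map F).moduleCat_range_eq_ker
  let w : F.obj N := N.presheaf.germ W x hx y
  have hw : w ∈ LinearMap.ker (F.map (modPowπ I m N)).hom := by
    show F.map (modPowπ I m N) w = 0
    refine (Groth.L21.Mod.stalkF_map_germ (modPowπ I m N) W x hx y).trans ?_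
    rw [hy]
    exact map_zero _
  let Q : Set (F.obj N) := {z | ∃ (W' : X.Opens) (h : W' ≤ W) (hx' : x ∈ W') (y' : Γ(N, W')),
    N.presheaf.germ W' x hx' y' = z ∧ ∀ (W'' : X.Opens) (h' : W'' ≤ W'),
      (modPowπ I m (homMod M N)).app W'' (θ hb i (h'.trans (h.trans hW)) (rs N h' y')) = 0}
  have hQ0 : (0 : F.obj N) ∈ Q := ⟨W, le_rfl, hx, 0, map_zero _, fun W'' h' => by
    rw [show rs N h' (0 : Γ(N, W)) = 0 from map_zero _,
      show θ hb i (h'.trans (le_rfl.trans hW)) (0 : Γ(N, W'')) = 0 from by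
        have := θ_smul hb i (h'.trans (le_rfl.trans hW)) (0 : Γ(X, W'')) (0 : Γ(N, W''))
        rwa [zero_smul, zero_smul] at this]
    exact map_zero _⟩
  have hQadd : ∀ z z', z ∈ Q → z' ∈ Q → z + z' ∈ Q := by
    rintro z z' ⟨W₁, h₁, hx₁, y₁, rfl, k₁⟩ ⟨W₂, h₂, hx₂, y₂, rfl, k₂⟩
    refine ⟨W₁ ⊓ W₂, inf_le_left.trans h₁, ⟨hx₁, hx₂⟩, rs N inf_le_left y₁ + rs N inf_le_right y₂, ?_,
      fun W'' h' => ?_⟩
    · rw [map_add]
      exact congrArg₂ (· + ·) (Groth.L20.ModStalk.germ_rs N inf_le_left ⟨hx₁, hx₂⟩ y₁)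
        (Groth.L20.ModStalk.germ_rs N inf_le_right ⟨hx₁, hx₂⟩ y₂)
    · rw [show rs N h' (rs N inf_le_left y₁ + rs N inf_le_right y₂) =
        rs N h' (rs N inf_le_left y₁) + rs N h' (rs N inf_le_right y₂) from map_add _ _ _, rs_rs, rs_rs,
        θ_add, map_add, k₁ W'' (h'.trans inf_le_left), k₂ W'' (h'.trans inf_le_right), add_zero]
  have hQsmul : ∀ (r : X.presheaf.stalk x) z, z ∈ Q → r • z ∈ Q := by
    rintro r z ⟨W₁, h₁, hx₁, y₁, rfl, k₁⟩
    obtain ⟨W₂, hx₂, c, rfl⟩ := TopCat.Presheaf.exists_germ_eq X.presheaf r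
    refine ⟨W₁ ⊓ W₂, inf_le_left.trans h₁, ⟨hx₁, hx₂⟩,
      (ro (inf_le_right : W₁ ⊓ W₂ ≤ W₂) c • rs N (inf_le_left : W₁ ⊓ W₂ ≤ W₁) y₁), ?_, fun W'' h' => ?_⟩
    · rw [Groth.L20.ModStalk.germ_smul, Groth.L20.ModStalk.germ_rs]
      congr 1
      exact TopCat.Presheaf.germ_res_apply X.presheaf (homOfLE (inf_le_right : W₁ ⊓ W₂ ≤ W₂)) x ⟨hx₁, hx₂⟩ c
    · rw [rs_smul, rs_rs, θ_smul, Scheme.Modules.Hom.app_smul, k₁ W'' (h'.trans inf_le_left), smul_zero]
  have hgen : ∀ (a : {a : A // a ∈ I ^ m}) (u : F.obj N), F.map (smulMod A N a.1) u ∈ Q := by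
    intro a u
    obtain ⟨W₁, hx₁, z, rfl⟩ := TopCat.Presheaf.exists_germ_eq N.presheaf u
    have hx' : x ∈ (W₁ : X.Opens) ⊓ W := ⟨hx₁, hx⟩
    refine ⟨(W₁ : X.Opens) ⊓ W, inf_le_right, hx', (smulMod A N a.1).app _ (rs N inf_le_left z), ?_, fun W'' h' => ?_⟩
    · refine (Groth.L21.Mod.stalkF_map_germ (smulMod A N a.1) _ x hx' _).symm.trans ?_
      exact congrArg (F.map (smulMod A N a.1)) (Groth.L20.ModStalk.germ_rs N inf_le_left hx' z)
    · rw [← app_rs, smulMod_app, θ_smul, ← smulMod_app]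
      exact ConcreteCategory.congr_hom (congrArg (fun t => Scheme.Modules.Hom.app t W'')
        (Rees.smulMod_modPowπ I (homMod M N) a.2)) _
  let Qs : Submodule (X.presheaf.stalk x) (F.obj N) :=
    { carrier := Q, add_mem' := fun {a b} => hQadd a b, zero_mem' := hQ0, smul_mem' := hQsmul }
  have hrange : LinearMap.range (F.map (smulFamily (I ^ m) N)).hom ≤ Qs := by
    have h0 : F.map (smulFamily (I ^ m) N) ≫ ModuleCat.ofHom Qs.mkQ = 0 := by
      refine (isColimitOfPreserves F (coproductIsCoproduct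
        (fun _ : {a : A // a ∈ I ^ m} => N))).hom_ext fun ⟨a⟩ => ?_
      rw [comp_zero]
      show F.map (Sigma.ι (fun _ : {a : A // a ∈ I ^ m} => N) a) ≫ F.map (smulFamily (I ^ m) N) ≫
        ModuleCat.ofHom Qs.mkQ = 0
      rw [← Category.assoc, ← F.map_comp, smulFamily, Sigma.ι_desc]
      ext u
      exact (Submodule.Quotient.mk_eq_zero Qs).2 (hgen a u)
    rintro _ ⟨u, rfl⟩
    exact (Submodule.Quotient.mk_eq_zero Qs).1 (ConcreteCategory.congr_hom h0 u)
  obtain ⟨W₁, h₁, hx₁, y₁, hy₁, k₁⟩ := hrange (hex.ge hw)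
  obtain ⟨W₂, hx₂, i₁, i₂, hW₂⟩ := TopCat.Presheaf.germ_eq N.presheaf x hx₁ hx y₁ y hy₁
  refine ⟨W₂, i₂.le, hx₂, ?_⟩
  rw [show rs N i₂.le y = rs N i₁.le y₁ from hW₂.symm]
  exact k₁ W₂ i₁.le

/-- The comparison is an isomorphism. -/
theorem isIso_comparison (hM : FlatMod.IsFinLocFree M) (m : ℕ) (N : X.Modules) :
    IsIso (comparison (M := M) I m N) := by
  classical
  haveI : Epi (modPowπ I m N) := inferInstanceAs (Epi (cokernel.π _))
  haveI : Epi (modPowπ I m (homMod M N)) := inferInstanceAs (Epi (cokernel.π _))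
  have hepi : Epi (comparison (M := M) I m N) := by
    refine Groth.L17.Serre.epi_of_locally_surjective _ fun U x hx t => ?_
    obtain ⟨V, n, b, -, hxV, hVU, hb⟩ := Groth.L19.ProjBdl.exists_basisOn hM x U hx
    have hb' := hb
    have hl := fun i : Fin n => exists_local_lift (modPowπ I m N) (ev (secEquiv U t) hVU (b i)) hxV
    choose W hW y hxW hy using hl
    let W' : X.Opens := ⟨V ∩ ⋂ i, (W i : Set X), V.2.inter (isOpen_iInter_of_finite fun i => (W i).2)⟩
    have hW' : W' ≤ V := fun z hz => hz.1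
    have hWi : ∀ i, W' ≤ W i := fun i z hz => Set.mem_iInter.1 hz.2 i
    let s : Γ(homMod M N, W') := ∑ i, θ hb i hW' (rs N (hWi i) (y i))
    refine ⟨W', hW'.trans hVU, ⟨hxV, Set.mem_iInter.2 hxW⟩, (modPowπ I m (homMod M N)).app W' s, ?_⟩
    show (comparison I m N).app W' ((modPowπ I m (homMod M N)).app W' s) = rs _ (hW'.trans hVU) t
    rw [show (comparison I m N).app W' ((modPowπ I m (homMod M N)).app W' s) = (post M (modPowπ I m N)).app W' s from
      ConcreteCategory.congr_hom (congrArg (fun k => Scheme.Modules.Hom.app k W') (π_comparison I m N)) s]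
    refine sec_ext' hb hW' fun k => ?_
    rw [ev_post, secEquiv_rs]
    have hs : ev (secEquiv W' s) le_rfl (rs M hW' (b k)) = rs N (hWi k) (y k) := by
      let E : Γ(homMod M N, W') →+ Γ(N, W') := AddMonoidHom.mk' (fun t => ev (secEquiv W' t) le_rfl (rs M hW' (b k)))
        fun _ _ => rfl
      refine (map_sum E _ _).trans ?_
      rw [Finset.sum_eq_single k]
      · show ev (secEquiv W' (θ hb k hW' _)) le_rfl _ = _
        rw [ev_θ, Pi.single_eq_same, rs_self]
      · intro i _ hik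
        show ev (secEquiv W' (θ hb i hW' _)) le_rfl _ = _
        rw [ev_θ, Pi.single_eq_of_ne hik.symm]
      · exact fun h => absurd (Finset.mem_univ k) h
    rw [hs, app_rs, hy, rs_rs, ← ev_rs (secEquiv U t) hVU hW' (b k)]
  have hmono : Mono (comparison (M := M) I m N) := by
    refine Preadditive.mono_of_cancel_zero _ fun {Z : X.Modules} g hg => Scheme.Modules.hom_ext _ _ fun V => ?_
    refine ConcreteCategory.hom_ext _ _ fun z => ?_
    let q := g.app V z
    have hq : (comparison I m N).app V q = 0 :=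
      ConcreteCategory.congr_hom (congrArg (fun k => Scheme.Modules.Hom.app k V) hg) z
    show q = 0
    have hloc : ∀ x : V, ∃ (W : X.Opens) (h : W ≤ V), x.1 ∈ W ∧ rs _ h q = 0 := by
      intro x
      obtain ⟨W₁, h₁, s, hx₁, hs⟩ := exists_local_lift (modPowπ I m (homMod M N)) q x.2
      obtain ⟨V₁, n, b, -, hxV₁, hV₁, hb⟩ := Groth.L19.ProjBdl.exists_basisOn hM x.1 W₁ hx₁
      let s₁ := rs (homMod M N) hV₁ s
      have hpost : (post M (modPowπ I m N)).app V₁ s₁ = 0 := by
        rw [← π_comparison I m N]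
        show (comparison I m N).app V₁ ((modPowπ I m (homMod M N)).app V₁ s₁) = 0
        rw [app_rs, hs, rs_rs, app_rs, hq]
        exact map_zero _
      have hker : ∀ i, (modPowπ I m N).app V₁ (ev (secEquiv V₁ s₁) le_rfl (rs M le_rfl (b i))) = 0 := fun i => by
        rw [← ev_post, hpost, map_zero]
        rfl
      choose W₂ h₂ hx₂ k₂ using fun i => θ_mem I m hb i le_rfl _ (hker i) hxV₁
      let W' : X.Opens := ⟨V₁ ∩ ⋂ i, (W₂ i : Set X), V₁.2.inter (isOpen_iInter_of_finite fun i => (W₂ i).2)⟩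
      have hW' : W' ≤ V₁ := fun w hw => hw.1
      have hWi : ∀ i, W' ≤ W₂ i := fun i w hw => Set.mem_iInter.1 hw.2 i
      refine ⟨W', hW'.trans (hV₁.trans h₁), ⟨hxV₁, Set.mem_iInter.2 hx₂⟩, ?_⟩
      rw [← rs_rs _ h₁ (hW'.trans hV₁) q, ← hs, ← rs_rs _ hV₁ hW', ← app_rs, ← app_rs]
      show (modPowπ I m (homMod M N)).app W' (rs (homMod M N) hW' s₁) = 0
      rw [eq_sum_θ hb le_rfl s₁, show rs (homMod M N) hW' (∑ i, θ hb i le_rfl
          (ev (secEquiv V₁ s₁) le_rfl (rs M le_rfl (b i)))) = ∑ i, rs (homMod M N) hW' (θ hb i le_rfl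
          (ev (secEquiv V₁ s₁) le_rfl (rs M le_rfl (b i)))) from map_sum _ _ _, map_sum]
      refine Finset.sum_eq_zero fun i _ => ?_
      rw [θ_rs]
      have h3 := congrArg (rs _ (hWi i)) (k₂ i)
      rw [← app_rs, θ_rs, rs_rs] at h3
      exact h3.trans (map_zero _)
    choose W hW hxW hz using hloc
    refine ext_cover _ W hW (fun w hw => Opens.mem_iSup.2 ⟨⟨w, hw⟩, hxW ⟨w, hw⟩⟩) fun w => ?_
    rw [hz]
    exact (map_zero _).symm
  exact isIso_of_mono_of_epi _

variable {N : X.Modules}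

/-- Completion is fully faithful on finite locally free modules when it is on sections. -/
theorem existsUnique_of_bijective_homMod [IsNoetherian X] (hM : FlatMod.IsFinLocFree M)
    (hb : Function.Bijective (Formal.toHHlim I (homMod M N) 0))
    (ψ : Formal.completion I M ⟶ Formal.completion I N) :
    ∃! φ : M ⟶ N, ∀ n : ℕ, modPowπ I (n + 1) M ≫ ψ.app (op n) = φ ≫ modPowπ I (n + 1) N := by
  haveI := fun m => isIso_comparison (M := M) I hM m N
  let f : ∀ n : ℕ, M ⟶ modPow I (n + 1) N := fun n => modPowπ I (n + 1) M ≫ ψ.app (op n)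
  have hf : ∀ n, f (n + 1) ≫ modPowTrans I (n + 1) N = f n := fun n => by
    have hn := ψ.naturality (homOfLE (Nat.le_succ n)).op
    simp only [Formal.completion, Functor.ofOpSequence_map_homOfLE_succ] at hn
    refine ((Category.assoc _ _ _).trans (congrArg (fun t => modPowπ I (n + 1 + 1) M ≫ t) hn.symm)).trans ?_
    exact (Category.assoc _ _ _).symm.trans (congrArg (fun t => t ≫ ψ.app (op n)) (modPowπ_trans I (n + 1) M))
  let h : ∀ n, Γ(modPow I (n + 1) (homMod M N), ⊤) := fun n =>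
    (inv (comparison (M := M) I (n + 1) N)).app ⊤ (globalEquiv M _ (f n))
  have hh : ∀ n, (comparison I (n + 1) N).app ⊤ (h n) = globalEquiv M _ (f n) := fun n => by
    show (inv (comparison (M := M) I (n + 1) N) ≫ comparison I (n + 1) N).app ⊤ _ = _
    rw [IsIso.inv_hom_id]
    rfl
  have hinj : ∀ n (a b : Γ(modPow I (n + 1) (homMod M N), ⊤)),
      (comparison I (n + 1) N).app ⊤ a = (comparison I (n + 1) N).app ⊤ b → a = b := fun n a b hab => by
    have := congrArg ((inv (comparison (M := M) I (n + 1) N)).app ⊤) hab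
    change (comparison I (n + 1) N ≫ inv (comparison (M := M) I (n + 1) N)).app ⊤ a =
      (comparison I (n + 1) N ≫ inv (comparison (M := M) I (n + 1) N)).app ⊤ b at this
    rwa [IsIso.hom_inv_id] at this
  have htrans : ∀ m, modPowTrans I m (homMod M N) ≫ comparison I m N =
      comparison I (m + 1) N ≫ post M (modPowTrans I m N) := fun m => by
    haveI : Epi (modPowπ I (m + 1) (homMod M N)) := inferInstanceAs (Epi (cokernel.π _))
    rw [← cancel_epi (modPowπ I (m + 1) (homMod M N)), ← Category.assoc, modPowπ_trans, π_comparison,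
      ← Category.assoc, π_comparison, ← post_comp, modPowπ_trans]
  let z : ∀ n, Formal.HHmodPow I (homMod M N) 0 n := fun n => (h0Equiv _).symm (h n)
  have hz : z ∈ Formal.HHlim I (homMod M N) 0 := fun n => (h0Equiv _).injective (by
    show h0Equiv _ (CategoryTheory.Sheaf.H.map _ 0 _) = _
    rw [h0Equiv_map, AddEquiv.apply_symm_apply, AddEquiv.apply_symm_apply]
    refine hinj n _ _ ?_
    show (modPowTrans I (n + 1) (homMod M N) ≫ comparison I (n + 1) N).app ⊤ (h (n + 1)) = _
    rw [htrans, hh]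
    show (post M (modPowTrans I (n + 1) N)).app ⊤ ((comparison I (n + 1 + 1) N).app ⊤ (h (n + 1))) = _
    rw [hh, ← globalEquiv_comp, hf])
  have key : ∀ (φ : M ⟶ N) (n : ℕ), f n = φ ≫ modPowπ I (n + 1) N ↔
      h0Equiv _ (Formal.toHHmodPow I (homMod M N) 0 n ((h0Equiv _).symm (globalEquiv M N φ))) = h n := by
    intro φ n
    rw [show h0Equiv _ (Formal.toHHmodPow I (homMod M N) 0 n ((h0Equiv _).symm (globalEquiv M N φ))) =
      (modPowπ I (n + 1) (homMod M N)).app ⊤ (globalEquiv M N φ) from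
        (h0Equiv_map _ _).trans (congrArg _ (AddEquiv.apply_symm_apply _ _))]
    have e : (comparison I (n + 1) N).app ⊤ ((modPowπ I (n + 1) (homMod M N)).app ⊤ (globalEquiv M N φ)) =
        globalEquiv M _ (φ ≫ modPowπ I (n + 1) N) := by
      rw [globalEquiv_post, ← π_comparison I (n + 1) N]
      rfl
    constructor
    · intro hφ
      refine hinj n _ _ ?_
      rw [e, hh, hφ]
    · intro hφ
      refine (globalEquiv M _).injective ?_
      rw [← e, ← hh, hφ]
  obtain ⟨y, hy⟩ := hb.2 ⟨z, hz⟩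
  refine ⟨(globalEquiv M N).symm (h0Equiv _ y), fun n => (key _ n).2 ?_, fun φ' hφ' => ?_⟩
  · rw [AddEquiv.apply_symm_apply, AddEquiv.symm_apply_apply,
      show Formal.toHHmodPow I (homMod M N) 0 n y = z n from congrFun (congrArg Subtype.val hy) n]
    exact AddEquiv.apply_symm_apply _ _
  · have hy' : Formal.toHHlim I (homMod M N) 0 ((h0Equiv _).symm (globalEquiv M N φ')) = ⟨z, hz⟩ := by
      refine Subtype.ext (funext fun k => (h0Equiv _).injective ?_)
      exact ((key φ' k).1 (hφ' k)).trans (AddEquiv.apply_symm_apply _ _).symm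
    have e := hb.1 (hy'.trans hy.symm)
    rw [← (globalEquiv M N).symm_apply_apply φ', ← (h0Equiv _).apply_symm_apply (globalEquiv M N φ'), e]

end Groth.L16.HomSh
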